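import Cfsg.Agent.Lib.JOneCard.Count
import Cfsg.Agent.Lib.JOneOrder.Gen
import Cfsg.Agent.Lib.SixtyFour.Eight
import Cfsg.Agent.Lib.Transfer.AbelianSylow
import Cfsg.Agent.S0107
import Cfsg.Agent.S0201
import Cfsg.Agent.S0514

/-!
# The Sylow 2-subgroups are elementary abelian
-/

set_option autoImplicit false
set_option linter.style.haveILetI false

namespace CfsgLib.JOneCard

open CfsgLib.JOneOrder
open scoped commutatorElement

universe u

variable {G : Type u} [Group G] [Finite G] [IsSimpleGroup G]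

theorem commutator_top (hG : ¬ IsMulCommutative G) : commutator G = ⊤ := by
  refine (IsSimpleGroup.eq_bot_or_eq_top_of_normal (commutator G) inferInstance).resolve_left
    fun h => hG ⟨⟨fun a b => ?_⟩⟩
  have : ⁅a, b⁆ ∈ commutator G :=
    Subgroup.commutator_mem_commutator (Subgroup.mem_top a) (Subgroup.mem_top b)
  rw [h, Subgroup.mem_bot, commutatorElement_eq_one_iff_mul_comm] at this
  exact this

theorem pResidual_top {y : G} (hy : orderOf y = 3) : Cfsg.pResidual 2 G = ⊤ := by
  haveI hn : (Cfsg.pResidual 2 G).Normal := ⟨fun a ha g => by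
    induction ha using Subgroup.closure_induction with
    | mem x hx =>
      refine Subgroup.subset_closure ?_
      show Nat.Coprime (orderOf (g * x * g⁻¹)) 2
      rw [show g * x * g⁻¹ = MulAut.conj g x from rfl, MulEquiv.orderOf_eq]
      exact hx
    | one => simp
    | mul x z _ _ hx hz => simpa [conj_mul] using mul_mem hx hz
    | inv x _ hx => rw [← conj_inv]; exact inv_mem hx⟩
  refine (IsSimpleGroup.eq_bot_or_eq_top_of_normal (Cfsg.pResidual 2 G) hn).resolve_left fun h => ?_
  have h1 : y ∈ Cfsg.pResidual 2 G :=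
    Subgroup.subset_closure (show Nat.Coprime (orderOf y) 2 by rw [hy]; norm_num)
  rw [h, Subgroup.mem_bot] at h1
  rw [h1, orderOf_one] at hy
  norm_num at hy

/-- A Sylow 2-subgroup of order eight, abelian but not elementary, has a fixed involution. -/
theorem fixed_of_abelian (S : Sylow 2 G) (h8 : Nat.card (S : Subgroup G) = 8)
    (hS : IsMulCommutative (S : Subgroup G)) {w : G} (hw : w ∈ (S : Subgroup G)) (hw2 : w * w ≠ 1) :
    ∃ x ∈ (S : Subgroup G), x ≠ 1 ∧
      ∀ n ∈ Subgroup.normalizer ((S : Subgroup G) : Set G), n * x = x * n := by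
  have hcomm : ∀ a ∈ (S : Subgroup G), ∀ b ∈ (S : Subgroup G), Commute a b := fun a ha b hb =>
    congrArg Subtype.val (hS.is_comm.comm ⟨a, ha⟩ ⟨b, hb⟩)
  have hord : ∀ a ∈ (S : Subgroup G), orderOf a ∣ 2 ^ 3 := fun a ha => by
    norm_num; exact h8 ▸ (S : Subgroup G).orderOf_dvd_natCard ha
  -- the largest order
  obtain ⟨m, s, hs, hsm, hmax⟩ : ∃ m, ∃ s ∈ (S : Subgroup G), orderOf s = 2 * m ∧ 2 ∣ m ∧
      ∀ a ∈ (S : Subgroup G), orderOf a ∣ 2 * m := by
    by_cases h : ∃ s ∈ (S : Subgroup G), orderOf s = 8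
    · obtain ⟨s, hs, h⟩ := h
      exact ⟨4, s, hs, h, by norm_num, fun a ha => hord a ha⟩
    · push_neg at h
      refine ⟨2, w, hw, ?_, by norm_num, fun a ha => ?_⟩
      · obtain ⟨i, hi, e⟩ := (Nat.dvd_prime_pow Nat.prime_two).mp (hord w hw)
        interval_cases i
        · exact absurd (by rw [orderOf_eq_one_iff.mp e, one_mul] : w * w = 1) hw2
        · exact absurd (by rw [← pow_two, show 2 = orderOf w by rw [e]; norm_num, pow_orderOf_eq_one]) hw2
        · exact e
        · exact absurd e (h w hw)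
      · obtain ⟨i, hi, e⟩ := (Nat.dvd_prime_pow Nat.prime_two).mp (hord a ha)
        interval_cases i <;> simp_all
  obtain ⟨hm2, hmax⟩ := hmax
  have hm0 : 0 < m := by
    have := orderOf_pos s
    omega
  refine ⟨s ^ m, pow_mem hs m, fun e => ?_, fun n hn => ?_⟩
  · have := Nat.le_of_dvd hm0 (hsm ▸ orderOf_dvd_of_pow_eq_one e)
    omega
  -- the `m`-th powers are `1` and `s ^ m`
  have key : ∀ a ∈ (S : Subgroup G), a ^ m = 1 ∨ a ^ m = s ^ m := by
    intro a ha
    by_cases ha' : a ^ m = 1
    · exact Or.inl ha'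
    right
    have hS' : (Subgroup.zpowers s).relIndex (S : Subgroup G) * (2 * m) = 8 := by
      have h1 := (Subgroup.zpowers s).subgroupOf (S : Subgroup G) |>.card_mul_index
      rw [Nat.card_congr (Subgroup.subgroupOfEquivOfLe (Subgroup.zpowers_le.mpr hs)).toEquiv,
        Nat.card_zpowers, hsm, h8] at h1
      rw [mul_comm]; exact h1
    have hm24 : m = 2 ∨ m = 4 := by
      have h1 : 2 * m ∣ 8 := ⟨_, by rw [mul_comm]; exact hS'.symm⟩
      have := Nat.le_of_dvd (by norm_num) h1
      have : m ≤ 4 := by omega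
      interval_cases m <;> omega
    have hidx : (Subgroup.zpowers s).relIndex (S : Subgroup G) ≤ 2 := by
      rcases hm24 with rfl | rfl <;> omega
    have haa : a * a ∈ Subgroup.zpowers s := by
      rcases (show (Subgroup.zpowers s).relIndex (S : Subgroup G) = 1 ∨
        (Subgroup.zpowers s).relIndex (S : Subgroup G) = 2 by rcases hm24 with rfl | rfl <;> omega) with e | e
      · exact mul_mem (Subgroup.relIndex_eq_one.mp e ha) (Subgroup.relIndex_eq_one.mp e ha)
      · exact Subgroup.mem_subgroupOf.mp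
          (Subgroup.mul_self_mem_of_index_two e (⟨a, ha⟩ : (S : Subgroup G)))
    obtain ⟨i, hi⟩ := mem_powers_iff_mem_zpowers.mpr haa
    change s ^ i = a * a at hi
    obtain ⟨d, rfl⟩ := hm2
    have e1 : a ^ (2 * d) = s ^ (i * d) := by rw [pow_mul, pow_two, ← hi, ← pow_mul]
    have e2 : (a ^ (2 * d)) ^ 2 = 1 := by
      rw [← pow_mul, mul_comm]; exact orderOf_dvd_iff_pow_eq_one.mp (hmax a ha)
    rw [e1, ← pow_mul] at e2
    have h2 := orderOf_dvd_of_pow_eq_one e2
    rw [hsm] at h2
    obtain ⟨r, hr⟩ := h2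
    have hid : i * d = 2 * d * r := by linarith
    rw [e1, hid, pow_mul]
    rcases Nat.even_or_odd' r with ⟨q, rfl | rfl⟩
    · exfalso
      refine ha' ?_
      rw [e1, hid, ← mul_assoc, pow_mul,
        show s ^ (2 * d * 2) = 1 by rw [mul_comm, ← hsm, pow_orderOf_eq_one], one_pow]
    · rw [pow_succ, ← pow_mul, ← mul_assoc, pow_mul,
        show s ^ (2 * d * 2) = 1 by rw [mul_comm, ← hsm, pow_orderOf_eq_one], one_pow, one_mul]
  have hc := Subgroup.mem_normalizer_iff.mp hn s
  rcases key _ (hc.mp hs) with e | e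
  · exfalso
    rw [conj_pow, conj_eq_one_iff] at e
    have := Nat.le_of_dvd hm0 (hsm ▸ orderOf_dvd_of_pow_eq_one e)
    omega
  · rw [conj_pow, mul_inv_eq_iff_eq_mul] at e
    exact e

variable (hG : ¬ IsMulCommutative G)

include hG in
/-- With a `3`-element commuting with an involution and normalizers of order `60` the Sylow
2-subgroups are elementary abelian. -/
theorem sylow_two_elementary (L₃ : Loc G 3 2926 10) [Fact (Nat.Prime 3)]
    (hg : Nat.card G = 175560) (S : Sylow 2 G) : ∀ x ∈ (S : Subgroup G), x * x = 1 := by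
  haveI : Fact (Nat.Prime 2) := ⟨Nat.prime_two⟩
  have h8 : ∀ T : Sylow 2 G, Nat.card (T : Subgroup G) = 8 := fun T => by
    rw [T.card_eq_multiplicity, hg, show (175560 : ℕ) = 2 ^ 3 * 21945 by norm_num,
      Nat.factorization_mul (by norm_num) (by norm_num), Finsupp.add_apply,
      Nat.Prime.factorization_pow Nat.prime_two, Finsupp.single_eq_same,
      Nat.factorization_eq_zero_of_not_dvd (n := 21945) (by norm_num)]
    norm_num
  intro w hw
  by_contra hw2
  by_cases hS : IsMulCommutative (S : Subgroup G)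
  · obtain ⟨x, hx, hx1, hfix⟩ := fixed_of_abelian S (h8 S) hS hw hw2
    exact hx1 (Transfer.eq_one_of_abelian_sylow S hS hx hfix (by
      rw [commutator_top hG]; exact Subgroup.mem_top x))
  rcases SixtyFour.eight_dihedral_or_quaternion (h8 S) hS with ⟨⟨e⟩⟩ | ⟨⟨e⟩⟩
  · -- dihedral
    obtain ⟨y, hy⟩ := exists_prime_orderOf_dvd_card' (G := G) 3 (by rw [hg]; norm_num)
    have hC : Nat.card (Subgroup.centralizer ({y} : Set G)) = 30 := L₃.card_cent_elem hy
    obtain ⟨⟨i, hiC⟩, hi⟩ := exists_prime_orderOf_dvd_card'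
      (G := Subgroup.centralizer ({y} : Set G)) 2 (by rw [hC]; norm_num)
    rw [Subgroup.orderOf_mk] at hi
    -- `i` is central in some Sylow subgroup
    obtain ⟨z, hzS, hz⟩ : ∃ z ∈ (S : Subgroup G), orderOf z = 2 ∧
        ∀ a ∈ (S : Subgroup G), Commute a z := by
      refine ⟨(e.symm (DihedralGroup.r 2) : (S : Subgroup G)), Subtype.property _, ?_, fun a ha => ?_⟩
      · rw [Subgroup.orderOf_coe, MulEquiv.orderOf_eq]
        exact orderOf_eq_prime (by decide) (by decide)
      · have key : ∀ d : DihedralGroup 4, d * DihedralGroup.r 2 = DihedralGroup.r 2 * d := by decide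
        have := congrArg e.symm (key (e ⟨a, ha⟩))
        rw [map_mul, map_mul, MulEquiv.symm_apply_apply] at this
        exact congrArg Subtype.val this
    obtain ⟨g, hgc⟩ := Cfsg.Agent.S0107.result S 2 le_rfl ⟨e⟩ (pResidual_top hy) z i hz.1 hi
    obtain ⟨T, hT⟩ : ∃ T : Sylow 2 G, T = g • S := ⟨_, rfl⟩
    have hTC : (T : Subgroup G) ≤ Subgroup.centralizer ({i} : Set G) := by
      rw [hT, Sylow.coe_subgroup_smul]
      rintro _ ⟨a, ha, rfl⟩
      refine Subgroup.mem_centralizer_singleton_iff.mpr ?_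
      rw [← hgc]
      show g * a * g⁻¹ * (g * z * g⁻¹) = g * z * g⁻¹ * (g * a * g⁻¹)
      calc g * a * g⁻¹ * (g * z * g⁻¹) = g * (a * z) * g⁻¹ := by group
        _ = g * (z * a) * g⁻¹ := by rw [(hz.2 a ha).eq]
        _ = _ := by group
    obtain ⟨N, hN, hNo, k, hk⟩ := Cfsg.Agent.S0514.result S 4 (by norm_num) ⟨e⟩ i hi
    haveI := hN
    set O := N.map (Subgroup.centralizer ({i} : Set G)).subtype with hO
    have hyC : y ∈ Subgroup.centralizer ({i} : Set G) := Subgroup.mem_centralizer_singleton_iff.mpr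
      (Subgroup.mem_centralizer_singleton_iff.mp hiC).symm
    have hyN : (⟨y, hyC⟩ : Subgroup.centralizer ({i} : Set G)) ∈ N := by
      have h2k : (QuotientGroup.mk' N ⟨y, hyC⟩) ^ (2 ^ k) = 1 := by
        have h1 := pow_card_eq_one' (x := QuotientGroup.mk' N ⟨y, hyC⟩)
        rwa [show Nat.card (_ ⧸ N) = 2 ^ k from hk] at h1
      have h3 : (QuotientGroup.mk' N ⟨y, hyC⟩) ^ 3 = 1 := by
        rw [← map_pow, show (⟨y, hyC⟩ : Subgroup.centralizer ({i} : Set G)) ^ 3 = 1 from
          Subtype.ext (by rw [Subgroup.coe_pow, ← hy, pow_orderOf_eq_one]; rfl), map_one]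
      refine (QuotientGroup.eq_one_iff _).mp (orderOf_eq_one_iff.mp ?_)
      exact Nat.eq_one_of_dvd_coprimes (Nat.Coprime.pow_left k (by norm_num : Nat.Coprime 2 3))
        (orderOf_dvd_of_pow_eq_one h2k) (orderOf_dvd_of_pow_eq_one h3)
    have hOc : Nat.card O = Nat.card N := Subgroup.card_map_of_injective Subtype.val_injective
    have hTn : (T : Subgroup G) ≤ Subgroup.normalizer (O : Set G) := fun a ha =>
      mem_normalizer_of_conj fun b hb => by
        obtain ⟨b', hb', rfl⟩ := hb
        exact ⟨⟨a, hTC ha⟩ * b' * ⟨a, hTC ha⟩⁻¹, hN.conj_mem _ hb' _, rfl⟩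
    obtain ⟨Q, hQ⟩ := invariant_sylow (by rw [hOc]; exact hNo.not_two_dvd_nat) T.2 hTn 3
    have h3O : 3 ∣ Nat.card O := hy ▸ O.orderOf_dvd_natCard ⟨_, hyN, rfl⟩
    set Q₀ := (Q : Subgroup O).map O.subtype with hQ₀
    have hQ3 : Nat.card Q₀ = 3 := by
      have h1 : Nat.card Q₀ ∣ 175560 := hg ▸ Subgroup.card_subgroup_dvd_card Q₀
      have h2 : Nat.card Q₀ = 3 ^ (Nat.card O).factorization 3 := by
        rw [hQ₀, Subgroup.card_map_of_injective Subtype.val_injective, Q.card_eq_multiplicity]
      have h3 : 1 ≤ (Nat.card O).factorization 3 :=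
        (Nat.prime_three.pow_dvd_iff_le_factorization Nat.card_pos.ne').mp (by rwa [pow_one])
      rcases (show (Nat.card O).factorization 3 = 1 ∨ 2 ≤ (Nat.card O).factorization 3 by omega) with e | e
      · rw [h2, e, pow_one]
      · exfalso
        have := ((pow_dvd_pow 3 e).trans (h2 ▸ h1 : 3 ^ _ ∣ 175560))
        norm_num at this
    obtain ⟨⟨u, huQ⟩, hu⟩ := exists_prime_orderOf_dvd_card' (G := Q₀) 3 (by rw [hQ3])
    rw [Subgroup.orderOf_mk] at hu
    have hQu : Subgroup.zpowers u = Q₀ := Subgroup.eq_of_le_of_card_ge (Subgroup.zpowers_le.mpr huQ)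
      (by rw [hQ3, Nat.card_zpowers, hu])
    have hN60 : Nat.card (Subgroup.normalizer ((Subgroup.zpowers u : Subgroup G) : Set G)) = 60 := by
      have := L₃.card_norm_elem hu
      rw [hg] at this
      omega
    have hle : (T : Subgroup G) ≤ Subgroup.normalizer ((Subgroup.zpowers u : Subgroup G) : Set G) := by
      rw [hQu]
      exact fun a ha => mem_normalizer_of_conj fun b hb => hQ a ha b hb
    have := Subgroup.card_dvd_of_le hle
    rw [h8, hN60] at this
    norm_num at this
  · -- quaternion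
    have h1 := Cfsg.Agent.S0201.result S 0 e (fun N hN hodd => by
      rcases hN.eq_bot_or_eq_top with h | h
      · exact h
      · rw [h, Subgroup.card_top, hg] at hodd
        exact absurd hodd (by decide))
    rcases (inferInstance : (Subgroup.center G).Normal).eq_bot_or_eq_top with h | h
    · rw [h, Subgroup.card_bot] at h1
      norm_num at h1
    · rw [h, Subgroup.card_top, hg] at h1
      norm_num at h1

end CfsgLib.JOneCard
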