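import Cfsg.Agent.Lib.JOneCard.Orders
import Cfsg.Agent.Lib.JOneCard.SylowTwo

/-!
# The centralizer of an involution commuting with an element of order five
-/

set_option autoImplicit false
set_option linter.style.haveILetI false

namespace CfsgLib.JOneCard

open CfsgLib.JOneOrder

universe u

/-- The situation of the involution centralizer. -/
structure FiveInv (G : Type u) [Group G] (x j : G) : Prop where
  hx : orderOf x = 5
  hj : orderOf j = 2
  comm : Commute x j
  card_C : Nat.card (Subgroup.centralizer ({j} : Set G)) = 120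
  card_x : Nat.card (Subgroup.centralizer ({x} : Set G)) = 30
  card_N : Nat.card (Subgroup.normalizer ((Subgroup.zpowers x : Subgroup G) : Set G)) = 60
  no_three : ∀ v, Commute x v → Commute j v → orderOf v ≠ 3
  squares : ∀ T : Sylow 2 G, ∀ a ∈ (T : Subgroup G), a * a = 1

variable {G : Type u} [Group G] [Finite G]

/-- The Sylow count inside a subgroup containing the element of order five. -/
theorem count_in [Fact (Nat.Prime 5)] {H : Subgroup G} {x : G} (hx : orderOf x = 5) (hxH : x ∈ H)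
    (hH : ¬ 25 ∣ Nat.card H) : ∃ n, n % 5 = 1 ∧
      n * Nat.card (Subgroup.normalizer ((Subgroup.zpowers x : Subgroup G) : Set G) ⊓ H : Subgroup G) =
        Nat.card H := by
  have hle : Subgroup.zpowers x ≤ H := Subgroup.zpowers_le.mpr hxH
  have hP : Nat.card ((Subgroup.zpowers x).subgroupOf H) = 5 := by
    rw [Nat.card_congr (Subgroup.subgroupOfEquivOfLe hle).toEquiv, Nat.card_zpowers, hx]
  let P : Sylow 5 H := Sylow.ofCard ((Subgroup.zpowers x).subgroupOf H) (by
    have h1 := ((Fact.out : Nat.Prime 5).pow_dvd_iff_le_factorization Nat.card_pos.ne').mp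
      (show 5 ^ 1 ∣ Nat.card H by rw [pow_one, ← hx]; exact H.orderOf_dvd_natCard hxH)
    have h2 : ¬ 2 ≤ (Nat.card H).factorization 5 := fun h =>
      hH (((Fact.out : Nat.Prime 5).pow_dvd_iff_le_factorization Nat.card_pos.ne').mpr h)
    rw [hP, show (Nat.card H).factorization 5 = 1 by omega, pow_one])
  have hn : Subgroup.normalizer ((P : Subgroup H) : Set H) =
      (Subgroup.normalizer ((Subgroup.zpowers x : Subgroup G) : Set G)).subgroupOf H := by
    ext z
    rw [Subgroup.mem_subgroupOf]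
    constructor
    · intro hz
      refine mem_normalizer_of_conj fun a ha => ?_
      exact (Subgroup.mem_normalizer_iff.mp hz ⟨a, hle ha⟩).mp ha
    · intro hz
      refine mem_normalizer_of_conj fun a ha => ?_
      exact (Subgroup.mem_normalizer_iff.mp hz (a : G)).mp ha
  refine ⟨Nat.card (Sylow 5 H), card_sylow_modEq_one 5 H, ?_⟩
  rw [P.card_eq_index_normalizer]
  change (Subgroup.normalizer ((P : Subgroup H) : Set H)).index * _ = _
  rw [hn, ← Nat.card_congr (Subgroup.subgroupOfEquivOfLe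
    (inf_le_right : _ ⊓ H ≤ H)).toEquiv, Subgroup.inf_subgroupOf_right, mul_comm]
  exact Subgroup.card_mul_index _

/-- In a subgroup of order thirty generated by commuting elements of orders two, three and five
the involution is unique. -/
theorem unique_involution {C : Subgroup G} (hC : Nat.card C = 30) {x y i z : G} (hxC : x ∈ C)
    (hyC : y ∈ C) (hiC : i ∈ C) (hzC : z ∈ C) (hx : orderOf x = 5) (hy : orderOf y = 3)
    (hi : orderOf i = 2) (hz : orderOf z = 2) (hxy : Commute x y) (hxi : Commute x i)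
    (hyi : Commute y i) : z = i := by
  have ho : orderOf (x * y * i) = 30 := by
    have h15 : orderOf (x * y) = 15 := by
      rw [hxy.orderOf_mul_eq_mul_orderOf_of_coprime (by rw [hx, hy]; norm_num), hx, hy]
    rw [(hxi.mul_left hyi).orderOf_mul_eq_mul_orderOf_of_coprime (by rw [h15, hi]; norm_num), h15, hi]
  have hgen : Subgroup.zpowers (x * y * i) = C := Subgroup.eq_of_le_of_card_ge
    (Subgroup.zpowers_le.mpr (mul_mem (mul_mem hxC hyC) hiC)) (by rw [hC, Nat.card_zpowers, ho])
  have key : ∀ w ∈ C, orderOf w = 2 → w = (x * y * i) ^ 15 := by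
    intro w hw h2
    rw [← hgen] at hw
    obtain ⟨m, rfl⟩ := mem_powers_iff_mem_zpowers.mpr hw
    change (x * y * i) ^ m = (x * y * i) ^ 15
    change orderOf ((x * y * i) ^ m) = 2 at h2
    have e : ((x * y * i) ^ m) ^ 2 = 1 := by rw [← h2]; exact pow_orderOf_eq_one _
    rw [← pow_mul] at e
    have h30 := orderOf_dvd_of_pow_eq_one e
    rw [ho] at h30
    rw [pow_eq_pow_iff_modEq, ho]
    have hne : (x * y * i) ^ m ≠ 1 := fun e => by rw [e, orderOf_one] at h2; norm_num at h2
    have hm : m % 30 ≠ 0 := fun e => hne (orderOf_dvd_iff_pow_eq_one.mp (by rw [ho]; omega))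
    show m % 30 = 15 % 30
    omega
  exact (key z hzC hz).trans (key i hiC hi).symm

theorem five_root' {y : G} (hy : y ^ 5 = 1) {i : ℕ} (hi : ¬ 5 ∣ i) :
    ∃ r : ℕ, (y ^ i) ^ r = y := by
  obtain ⟨r, -, hr⟩ := Nat.exists_mul_mod_eq_one_of_coprime
    ((Nat.Prime.coprime_iff_not_dvd (by norm_num)).mpr hi).symm (by norm_num : 1 < 5)
  exact ⟨r, by rw [← pow_mul, pow_eq_pow_mod (i * r) hy, hr, pow_one]⟩

/-- Elements of order three and six. -/
theorem count_three {c k m : ℕ} [Fact (Nat.Prime 3)] (L : Loc G 3 c k)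
    (h : ∀ a : G, orderOf a = 3 → ∃ f : Fin m → G, Function.Injective f ∧
      ∀ i, Commute a (f i) ∧ f i * f i = 1) :
    c * 2 * m ≤ Nat.card {g : G // 3 ∣ orderOf g ∧ ∀ q, q.Prime → q ∣ orderOf g → q = 2 ∨ q = 3} := by
  classical
  rw [← L.card_sylow, ← SmallOrder.card_orderOf_eq_prime (q := 3) L.card_sylowP]
  choose f hf hf' using h
  let F : {a : G // orderOf a = 3} × Fin m →
      {g : G // 3 ∣ orderOf g ∧ ∀ q, q.Prime → q ∣ orderOf g → q = 2 ∨ q = 3} := fun z =>
    ⟨z.1.1 * f z.1.1 z.1.2 z.2, by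
      obtain ⟨hc, hsq⟩ := hf' z.1.1 z.1.2 z.2
      have hd : orderOf (f z.1.1 z.1.2 z.2) ∣ 2 := orderOf_dvd_of_pow_eq_one (by rw [pow_two, hsq])
      have ho : orderOf (z.1.1 * f z.1.1 z.1.2 z.2) = 3 * orderOf (f z.1.1 z.1.2 z.2) := by
        rw [hc.orderOf_mul_eq_mul_orderOf_of_coprime
          (by rw [z.1.2]; exact Nat.Coprime.coprime_dvd_right hd (by norm_num)), z.1.2]
      refine ⟨ho ▸ dvd_mul_right _ _, fun q hq hqd => ?_⟩
      rw [ho] at hqd
      rcases (Nat.Prime.dvd_mul hq).mp hqd with h | h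
      · exact Or.inr ((Nat.prime_dvd_prime_iff_eq hq Nat.prime_three).mp h)
      · exact Or.inl ((Nat.prime_dvd_prime_iff_eq hq Nat.prime_two).mp (h.trans hd))⟩
  have hF : Function.Injective F := by
    rintro ⟨⟨a, ha⟩, i⟩ ⟨⟨a', ha'⟩, i'⟩ e
    have e1 : a * f a ha i = a' * f a' ha' i' := congrArg Subtype.val e
    have p4 : ∀ (a b : G), orderOf a = 3 → Commute a b → b * b = 1 → (a * b) ^ 4 = a := by
      intro a b ha hc hb
      rw [hc.mul_pow, show b ^ 4 = (b * b) * (b * b) by simp only [pow_succ, pow_zero, one_mul, mul_assoc],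
        hb, one_mul, mul_one, pow_succ, ← ha, pow_orderOf_eq_one, one_mul]
    obtain rfl : a = a' := by
      rw [← p4 a _ ha (hf' a ha i).1 (hf' a ha i).2, e1, p4 a' _ ha' (hf' a' ha' i').1 (hf' a' ha' i').2]
    obtain rfl := hf a ha (mul_left_cancel e1)
    rfl
  have := Nat.card_le_card_of_injective F hF
  rwa [Nat.card_prod, Nat.card_fin] at this

variable [IsSimpleGroup G]

/-- The involution. -/
theorem exists_five_inv (hg : Nat.card G = 175560) : ∃ x j : G, FiveInv G x j := by
  haveI : Fact (Nat.Prime 2) := ⟨Nat.prime_two⟩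
  haveI : Fact (Nat.Prime 3) := ⟨Nat.prime_three⟩
  haveI : Fact (Nat.Prime 5) := ⟨by norm_num⟩
  haveI : Fact (Nat.Prime 7) := ⟨by norm_num⟩
  haveI : Fact (Nat.Prime 11) := ⟨by norm_num⟩
  haveI : Fact (Nat.Prime 19) := ⟨by norm_num⟩
  have hG : ¬ IsMulCommutative G :=
    SmallOrder.not_comm_of_not_prime (by rw [hg]; norm_num)
  obtain ⟨k₁₁, k₇, k₅, hk₁₁, hk₇, hk₅, ⟨L₁₉⟩, ⟨L₁₁⟩, ⟨L₇⟩, ⟨L₅⟩, ⟨L₃⟩⟩ := exists_locs hg
  have hsq := fun T => sylow_two_elementary hG L₃ hg T
  have two_elt : ∀ a : G, orderOf a = 4 → False := fun a ha => by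
    obtain ⟨T, hT⟩ := (IsPGroup.of_card (p := 2) (n := 2)
      (show Nat.card (Subgroup.zpowers a) = 2 ^ 2 by rw [Nat.card_zpowers, ha]; norm_num)).exists_le_sylow
    have h := orderOf_dvd_of_pow_eq_one
      ((pow_two a).trans (hsq T a (hT (Subgroup.mem_zpowers a))))
    rw [ha] at h
    norm_num at h
  obtain ⟨x, hx⟩ := exists_prime_orderOf_dvd_card' (G := G) 5 (by rw [hg]; norm_num)
  set C := Subgroup.centralizer ({x} : Set G) with hC
  have memC : ∀ z, z ∈ C ↔ Commute x z := fun z =>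
    Subgroup.mem_centralizer_singleton_iff.trans ⟨fun e => e.symm, fun e => e.symm⟩
  set N := Subgroup.normalizer ((Subgroup.zpowers x : Subgroup G) : Set G) with hN
  have hN60 : Nat.card N = 60 := by
    have h1 : Nat.card N * 2926 = 175560 := (L₅.card_norm_elem hx).trans hg
    omega
  -- five commutes with an involution
  have hk56 : k₅ = 6 := by
    refine hk₅.resolve_left fun h => ?_
    subst h
    obtain ⟨T⟩ : Nonempty (Sylow 2 N) := inferInstance
    have hT4 : Nat.card (T : Subgroup N) = 4 := by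
      rw [T.card_eq_multiplicity, hN60, show (60 : ℕ) = 2 ^ 2 * 15 by norm_num,
        Nat.factorization_mul (by norm_num) (by norm_num), Finsupp.add_apply,
        Nat.Prime.factorization_pow Nat.prime_two, Finsupp.single_eq_same,
        Nat.factorization_eq_zero_of_not_dvd (n := 15) (by norm_num)]
      norm_num
    obtain ⟨S, hS⟩ := (T.2.map N.subtype).exists_le_sylow
    have sq : ∀ a ∈ (T : Subgroup N), a * a = 1 := fun a ha =>
      Subtype.ext (hsq S _ (hS ⟨a, ha, rfl⟩))
    have act : ∀ a ∈ (T : Subgroup N), (a : G) * x * (a : G)⁻¹ = x ∨ (a : G) * x * (a : G)⁻¹ = x⁻¹ := by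
      intro a ha
      obtain ⟨i, hi⟩ := mem_powers_iff_mem_zpowers.mpr
        ((Subgroup.mem_normalizer_iff.mp a.2 x).mp (Subgroup.mem_zpowers x))
      change x ^ i = _ at hi
      have h5 : x ^ 5 = 1 := by rw [← hx, pow_orderOf_eq_one]
      have hsqa : (a : G) * a = 1 := congrArg Subtype.val (sq a ha)
      have hii : x ^ (i * i) = x ^ 1 := by
        rw [pow_one, pow_mul, hi, conj_pow, hi,
          show (a : G) * ((a : G) * x * (a : G)⁻¹) * (a : G)⁻¹ = ((a : G) * a) * x * ((a : G) * a)⁻¹ by group,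
          hsqa]
        group
      have hm := pow_eq_pow_iff_modEq.mp hii
      rw [hx] at hm
      have key : ∀ r : Fin 5, (r : ℕ) * r % 5 = 1 → (r : ℕ) = 1 ∨ (r : ℕ) = 4 := by decide
      rw [← hi, pow_eq_pow_mod i h5]
      rcases key ⟨i % 5, Nat.mod_lt _ (by norm_num)⟩ (by
        show i % 5 * (i % 5) % 5 = 1
        rw [← Nat.mul_mod]; exact hm) with e | e <;> simp only at e <;> rw [e]
      · exact Or.inl (pow_one x)
      · exact Or.inr (eq_inv_of_mul_eq_one_left (by rw [← pow_succ]; exact h5))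
    -- an involution of `T` centralises `x`
    obtain ⟨a, ha, ha1, hac⟩ : ∃ a ∈ (T : Subgroup N), a ≠ 1 ∧ Commute x (a : G) := by
      have hlt : 1 < Nat.card (T : Subgroup N) := by rw [hT4]; norm_num
      haveI := Finite.one_lt_card_iff_nontrivial.mp hlt
      by_contra hno
      push_neg at hno
      have inv : ∀ a ∈ (T : Subgroup N), a ≠ 1 → (a : G) * x * (a : G)⁻¹ = x⁻¹ := fun a ha ha1 =>
        (act a ha).resolve_left fun e => hno a ha ha1 (mul_inv_eq_iff_eq_mul.mp e).symm
      obtain ⟨⟨u, hu⟩, hu1⟩ := exists_ne (1 : (T : Subgroup N))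
      obtain ⟨⟨v, hv⟩, hv1, hvu⟩ : ∃ v : (T : Subgroup N), v ≠ 1 ∧ v ≠ ⟨u, hu⟩ := by
        classical
        haveI := Fintype.ofFinite (T : Subgroup N)
        have : ({1, ⟨u, hu⟩} : Finset (T : Subgroup N)).card < (Finset.univ : Finset (T : Subgroup N)).card := by
          rw [Finset.card_univ, ← Nat.card_eq_fintype_card, hT4]
          exact Finset.card_le_two.trans_lt (by norm_num)
        obtain ⟨v, -, hv⟩ := Finset.exists_mem_notMem_of_card_lt_card this
        simp only [Finset.mem_insert, Finset.mem_singleton, not_or] at hv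
        exact ⟨v, hv.1, hv.2⟩
      have e1 := inv u hu fun e => hu1 (Subtype.ext e)
      have e2 := inv v hv fun e => hv1 (Subtype.ext e)
      refine hno (u * v) (mul_mem hu hv) (fun e => hvu (Subtype.ext ?_)) ?_
      · exact mul_left_cancel (e.trans (sq u hu).symm)
      · have : ((u * v : N) : G) * x * ((u * v : N) : G)⁻¹ = x := by
          rw [Subgroup.coe_mul, show (u : G) * v * x * ((u : G) * v)⁻¹ =
            (u : G) * ((v : G) * x * (v : G)⁻¹) * (u : G)⁻¹ by group, e2, ← conj_inv, e1, inv_inv]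
        exact (mul_inv_eq_iff_eq_mul.mp this).symm
    have ho : orderOf ((a : G)) = 2 := by
      rw [Subgroup.orderOf_coe]
      exact orderOf_eq_prime (by rw [pow_two]; exact sq a ha) ha1
    have := C.orderOf_dvd_natCard ((memC _).mpr hac)
    rw [ho, L₅.card_cent_elem hx] at this
    norm_num at this
  subst hk56
  have hC30 : Nat.card C = 30 := L₅.card_cent_elem hx
  -- a preliminary count
  have h3le := fun (m : ℕ) (h : ∀ a : G, orderOf a = 3 → ∃ f : Fin m → G, Function.Injective f ∧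
      ∀ i, Commute a (f i) ∧ f i * f i = 1) => total hg L₁₉ L₁₁ L₇ L₅
    (fun g => 3 ∣ orderOf g ∧ ∀ q, q.Prime → q ∣ orderOf g → q = 2 ∨ q = 3) (by norm_num)
    (by norm_num) (by norm_num) (by omega) (by norm_num) (by omega) (fun g hg' => ⟨fun e => by
      have := hg'.2 19 (by norm_num) e; omega, fun e => by
      have := hg'.2 11 (by norm_num) e; omega, fun e => by
      have := hg'.2 7 (by norm_num) e; omega, fun e => by
      have := hg'.2 5 (by norm_num) e; omega⟩)
  have hone : ∀ a : G, orderOf a = 3 → ∃ i, orderOf i = 2 ∧ Commute a i := fun a ha => by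
    obtain ⟨⟨i, hi'⟩, hi⟩ := exists_prime_orderOf_dvd_card'
      (G := Subgroup.centralizer ({a} : Set G)) 2 (by rw [L₃.card_cent_elem ha]; norm_num)
    rw [Subgroup.orderOf_mk] at hi
    exact ⟨i, hi, (Subgroup.mem_centralizer_singleton_iff.mp hi').symm⟩
  have h71 : k₇ = 1 := by
    refine hk₇.resolve_right fun h => ?_
    subst h
    have hb : ∀ a : G, orderOf a = 3 → ∃ f : Fin 2 → G, Function.Injective f ∧
        ∀ i, Commute a (f i) ∧ f i * f i = 1 := by
      intro a ha
      obtain ⟨i, hi, hai⟩ := hone a ha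
      have hii : i * i = 1 := by rw [← pow_two, ← hi, pow_orderOf_eq_one]
      have hi1 : i ≠ 1 := fun e => by rw [e, orderOf_one] at hi; norm_num at hi
      refine ⟨![1, i], fun p q e => ?_, fun p => ?_⟩
      · fin_cases p <;> fin_cases q <;> first | rfl | exact absurd e.symm hi1 | exact absurd e hi1
      · fin_cases p
        · exact ⟨Commute.one_right a, one_mul 1⟩
        · exact ⟨hai, hii⟩
    have h1 := count_three L₃ hb
    have h2 := h3le 2 hb
    omega
  subst h71
  have prime_cent : ∀ i : G, orderOf i = 2 →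
      ¬ 19 ∣ Nat.card (Subgroup.centralizer ({i} : Set G)) ∧
      ¬ 7 ∣ Nat.card (Subgroup.centralizer ({i} : Set G)) ∧
      (k₁₁ = 1 → ¬ 11 ∣ Nat.card (Subgroup.centralizer ({i} : Set G))) := by
    intro i hi
    have key : ∀ {q c k : ℕ} [Fact q.Prime] (_ : Loc G q c k), q ≠ 2 → ¬ 2 ∣ k →
        ¬ q ∣ Nat.card (Subgroup.centralizer ({i} : Set G)) := by
      intro q c k _ L hne hk h
      obtain ⟨⟨u, hu'⟩, hu⟩ := exists_prime_orderOf_dvd_card' q h
      rw [Subgroup.orderOf_mk] at hu
      exact hk (hi ▸ L.dvd_of_commute hu (hi.symm ▸ Nat.prime_two) (hi.symm ▸ fun e => hne e.symm)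
        (Subgroup.mem_centralizer_singleton_iff.mp hu'))
    exact ⟨key L₁₉ (by norm_num) (by norm_num), key L₇ (by norm_num) (by norm_num),
      fun e => key L₁₁ (by norm_num) (by omega)⟩
  have eight : ∀ i : G, orderOf i = 2 → 8 ∣ Nat.card (Subgroup.centralizer ({i} : Set G)) := by
    intro i hi
    obtain ⟨T, hT⟩ := (IsPGroup.of_card (p := 2) (n := 1)
      (show Nat.card (Subgroup.zpowers i) = 2 ^ 1 by rw [Nat.card_zpowers, hi, pow_one])).exists_le_sylow
    have hle : (T : Subgroup G) ≤ Subgroup.centralizer ({i} : Set G) := fun a ha => by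
      refine Subgroup.mem_centralizer_singleton_iff.mpr ?_
      have h1 := hsq T i (hT (Subgroup.mem_zpowers i))
      have h2 := hsq T a ha
      have h3 := hsq T (a * i) (mul_mem ha (hT (Subgroup.mem_zpowers i)))
      calc a * i = (a * i)⁻¹ := (inv_eq_of_mul_eq_one_right h3).symm
        _ = i * a := by
          rw [mul_inv_rev, inv_eq_of_mul_eq_one_right h1, inv_eq_of_mul_eq_one_right h2]
    have := Subgroup.card_dvd_of_le hle
    rwa [T.card_eq_multiplicity, hg, show (175560 : ℕ) = 2 ^ 3 * 21945 by norm_num,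
      Nat.factorization_mul (by norm_num) (by norm_num), Finsupp.add_apply,
      Nat.Prime.factorization_pow Nat.prime_two, Finsupp.single_eq_same,
      Nat.factorization_eq_zero_of_not_dvd (n := 21945) (by norm_num)] at this
  -- the centralizer of `x` is not cyclic
  have noCyc : ∀ y i, orderOf y = 3 → orderOf i = 2 → Commute x y → Commute x i → ¬ Commute y i := by
    intro y i hy hi hxy hxi hyi
    have hNC : N ≤ Subgroup.centralizer ({i} : Set G) := fun n hn => by
      have hnC : n * i * n⁻¹ ∈ C := by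
        refine (memC _).mpr ?_
        obtain ⟨e, he⟩ := mem_powers_iff_mem_zpowers.mpr
          ((Subgroup.mem_normalizer_iff'' (H := Subgroup.zpowers x)).mp hn x |>.mp (Subgroup.mem_zpowers x))
        change x ^ e = _ at he
        have := (hxi.pow_left e).map (MulAut.conj n).toMonoidHom
        rw [he] at this
        simpa [MulAut.conj_apply, mul_assoc] using this
      have := unique_involution hC30 ((memC _).mpr (Commute.refl x)) ((memC _).mpr hxy)
        ((memC _).mpr hxi) hnC hx hy hi (by rw [← MulAut.conj_apply, MulEquiv.orderOf_eq, hi]) hxy hxi hyi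
      exact Subgroup.mem_centralizer_singleton_iff.mpr (mul_inv_eq_iff_eq_mul.mp this)
    set H := Subgroup.centralizer ({i} : Set G) with hH
    have h60 : 60 ∣ Nat.card H := hN60 ▸ Subgroup.card_dvd_of_le hNC
    have h8 := eight i hi
    have hd : Nat.card H ∣ 175560 := hg ▸ Subgroup.card_subgroup_dvd_card H
    obtain ⟨n, hn1, hn2⟩ := count_in hx (hNC (Subgroup.le_normalizer (Subgroup.mem_zpowers x)))
      (fun h => by have := h.trans hd; norm_num at this)
    rw [inf_eq_left.mpr hNC, hN60] at hn2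
    obtain ⟨n19, n7, -⟩ := prime_cent i hi
    rw [← hn2] at h8 hd n19 n7
    have hd' : n ∣ 2 * (7 * 11 * 19) := by
      have : n * 60 ∣ (2 * (7 * 11 * 19)) * 60 := by norm_num; exact hd
      exact Nat.dvd_of_mul_dvd_mul_right (by norm_num) this
    have h2 : 2 ∣ n := by omega
    have key : ∀ n : ℕ, n ∈ Nat.divisors (2 * (7 * 11 * 19)) → n % 5 = 1 → 2 ∣ n → 7 ∣ n ∨ 19 ∣ n := by
      decide +kernel
    rcases key n (Nat.mem_divisors.mpr ⟨hd', by norm_num⟩) hn1 h2 with h | h
    · exact n7 (h.mul_right _)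
    · exact n19 (h.mul_right _)
  -- eleven
  obtain ⟨⟨y, hyC⟩, hy⟩ := exists_prime_orderOf_dvd_card' (G := C) 3 (by rw [hC30]; norm_num)
  rw [Subgroup.orderOf_mk] at hy
  have hxy : Commute x y := (memC _).mp hyC
  obtain ⟨⟨j, hjC⟩, hj⟩ := exists_prime_orderOf_dvd_card' (G := C) 2 (by rw [hC30]; norm_num)
  rw [Subgroup.orderOf_mk] at hj
  have hxj : Commute x j := (memC _).mp hjC
  have h111 : k₁₁ = 1 := by
    refine hk₁₁.resolve_right fun h => ?_
    subst h
    have hb : ∀ a : G, orderOf a = 3 → ∃ f : Fin 6 → G, Function.Injective f ∧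
        ∀ i, Commute a (f i) ∧ f i * f i = 1 := by
      intro a ha
      obtain ⟨i, hi, hai⟩ := hone a ha
      -- the element of order five in the centralizer of `a`
      obtain ⟨⟨u, hu'⟩, hu⟩ := exists_prime_orderOf_dvd_card'
        (G := Subgroup.centralizer ({a} : Set G)) 5 (by rw [L₃.card_cent_elem ha]; norm_num)
      rw [Subgroup.orderOf_mk] at hu
      have hau : Commute a u := (Subgroup.mem_centralizer_singleton_iff.mp hu').symm
      obtain ⟨R, hR⟩ := L₅.exists_sylow hu
      obtain ⟨P, hP⟩ := L₅.exists_sylow hx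
      obtain ⟨g, hgR⟩ := MulAction.exists_smul_eq G R P
      have hgu : g * u * g⁻¹ ∈ Subgroup.zpowers x := by
        rw [← hP, ← hgR, Sylow.coe_subgroup_smul]
        exact ⟨u, hR ▸ Subgroup.mem_zpowers u, rfl⟩
      have hnui : ¬ Commute u i := fun hui => by
        have hxu : x ∈ Subgroup.zpowers (g * u * g⁻¹) := by
          rw [Subgroup.eq_of_le_of_card_ge (Subgroup.zpowers_le.mpr hgu)
            (by rw [Nat.card_zpowers, Nat.card_zpowers, hx, ← MulAut.conj_apply, MulEquiv.orderOf_eq, hu])]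
          exact Subgroup.mem_zpowers x
        obtain ⟨e, rfl⟩ := mem_powers_iff_mem_zpowers.mpr hxu
        refine noCyc (g * a * g⁻¹) (g * i * g⁻¹) (by rw [← MulAut.conj_apply, MulEquiv.orderOf_eq, ha])
          (by rw [← MulAut.conj_apply, MulEquiv.orderOf_eq, hi]) ?_ ?_ ?_
        · exact ((hau.symm.map (MulAut.conj g).toMonoidHom).pow_left e)
        · exact ((hui.map (MulAut.conj g).toMonoidHom).pow_left e)
        · exact hai.map (MulAut.conj g).toMonoidHom
      have hii : i * i = 1 := by rw [← pow_two, ← hi, pow_orderOf_eq_one]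
      have hi1 : i ≠ 1 := fun e => hnui (e ▸ Commute.one_right u)
      refine ⟨Fin.cons 1 (fun s : Fin 5 => u ^ (s : ℕ) * i * (u ^ (s : ℕ))⁻¹),
        (Fin.cons_injective_iff.mpr ⟨?_, ?_⟩), fun p => ?_⟩
      · rintro ⟨s, hs⟩
        exact hi1 (conj_eq_one_iff.mp hs)
      · intro s s' e
        by_contra hne
        refine hnui ?_
        have h5 : u ^ 5 = 1 := by rw [← hu, pow_orderOf_eq_one]
        have hc : Commute (u ^ ((5 - (s' : ℕ)) + s)) i := by
          rw [pow_add]
          have h1 : u ^ (5 - (s' : ℕ)) = (u ^ (s' : ℕ))⁻¹ := eq_inv_of_mul_eq_one_left (by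
            rw [← pow_add, Nat.sub_add_cancel s'.2.le, h5])
          rw [h1]
          show (u ^ (s' : ℕ))⁻¹ * u ^ (s : ℕ) * i = i * ((u ^ (s' : ℕ))⁻¹ * u ^ (s : ℕ))
          calc (u ^ (s' : ℕ))⁻¹ * u ^ (s : ℕ) * i
              = (u ^ (s' : ℕ))⁻¹ * (u ^ (s : ℕ) * i * (u ^ (s : ℕ))⁻¹) * u ^ (s : ℕ) := by group
            _ = (u ^ (s' : ℕ))⁻¹ * (u ^ (s' : ℕ) * i * (u ^ (s' : ℕ))⁻¹) * u ^ (s : ℕ) :=
                congrArg (fun z => (u ^ (s' : ℕ))⁻¹ * z * u ^ (s : ℕ)) e
            _ = i * ((u ^ (s' : ℕ))⁻¹ * u ^ (s : ℕ)) := by group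
        obtain ⟨r, hr⟩ := five_root' h5 (i := (5 - (s' : ℕ)) + s) (by
          have := Fin.val_ne_of_ne hne; omega)
        exact hr ▸ hc.pow_left r
      · refine Fin.cases ⟨Commute.one_right a, one_mul 1⟩ (fun s => ⟨?_, ?_⟩) p
        · simp only [Fin.cons_succ]
          exact ((hau.pow_right _).mul_right hai).mul_right (hau.pow_right _).inv_right
        · simp only [Fin.cons_succ]
          rw [show u ^ (s : ℕ) * i * (u ^ (s : ℕ))⁻¹ * (u ^ (s : ℕ) * i * (u ^ (s : ℕ))⁻¹) =
            u ^ (s : ℕ) * (i * i) * (u ^ (s : ℕ))⁻¹ by group, hii]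
          group
    have h1 := count_three L₃ hb
    have h2 := h3le 6 hb
    omega
  -- the order of the centralizer
  have hjy : ∀ v, Commute x v → Commute j v → orderOf v ≠ 3 := fun v hv hjv ho =>
    noCyc v j ho hj hv hxj hjv.symm
  set H := Subgroup.centralizer ({j} : Set G) with hH
  have hxH : x ∈ H := Subgroup.mem_centralizer_singleton_iff.mpr hxj.eq
  have hjxH : j ∈ H := Subgroup.mem_centralizer_singleton_iff.mpr rfl
  obtain ⟨n19, n7, n11⟩ := prime_cent j hj
  have hd : Nat.card H ∣ 120 := by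
    have hd0 : Nat.card H ∣ 175560 := hg ▸ Subgroup.card_subgroup_dvd_card H
    have cop : ∀ q : ℕ, q.Prime → ¬ q ∣ Nat.card H → Nat.Coprime (Nat.card H) q := fun q hq h =>
      ((Nat.Prime.coprime_iff_not_dvd hq).mpr h).symm
    exact (((cop 7 (by norm_num) n7).mul_right (cop 11 (by norm_num) (n11 h111))).mul_right
      (cop 19 (by norm_num) n19)).dvd_of_dvd_mul_right (show Nat.card H ∣ 120 * (7 * 11 * 19) by norm_num; exact hd0)
  have h40 : 40 ∣ Nat.card H := Nat.Coprime.mul_dvd_of_dvd_of_dvd (show Nat.Coprime 8 5 by norm_num)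
    (eight j hj) (hx ▸ H.orderOf_dvd_natCard hxH)
  refine ⟨x, j, hx, hj, hxj, ?_, hC30, hN60, hjy, hsq⟩
  have hcases : Nat.card H = 40 ∨ Nat.card H = 120 := by
    obtain ⟨r, hr⟩ := h40
    rw [hr] at hd ⊢
    have h3 : r ∣ 3 := Nat.dvd_of_mul_dvd_mul_left (by norm_num : 0 < 40) (show 40 * r ∣ 40 * 3 from hd)
    rcases (Nat.dvd_prime Nat.prime_three).mp h3 with rfl | rfl <;> norm_num
  refine hcases.resolve_left fun h => ?_
  obtain ⟨n, hn1, hn2⟩ := count_in hx hxH (by rw [h]; norm_num)
  rw [h] at hn2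
  have hn : n = 1 := by
    have hle : n ∣ 40 := ⟨_, hn2.symm⟩
    have hle' := Nat.le_of_dvd (by norm_num) hle
    have hM := Nat.card_pos (α := (Subgroup.normalizer ((Subgroup.zpowers x : Subgroup G) : Set G) ⊓ H : Subgroup G))
    have h5 : 5 ∣ Nat.card (Subgroup.normalizer ((Subgroup.zpowers x : Subgroup G) : Set G) ⊓ H : Subgroup G) :=
      hx ▸ Subgroup.orderOf_dvd_natCard _ ⟨Subgroup.le_normalizer (Subgroup.mem_zpowers x), hxH⟩
    have h8 : n ∣ 8 := (Nat.Coprime.dvd_mul_right (n := 5)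
      ((Nat.Prime.coprime_iff_not_dvd (by norm_num : Nat.Prime 5)).mpr (by omega)).symm).mp
        (show n ∣ 8 * 5 from hle)
    have := Nat.le_of_dvd (by norm_num) h8
    interval_cases n <;> omega
  rw [hn, one_mul] at hn2
  have := hn2 ▸ Subgroup.card_dvd_of_le (inf_le_left (a := N) (b := H))
  rw [hN60] at this
  norm_num at this

end CfsgLib.JOneCard
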