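import Cfsg.Agent.Lib.JOneCard.Cases
import Cfsg.Agent.S0494

/-!
# The centralizer is the direct product of a group of order two and `A5`
-/

set_option autoImplicit false
set_option linter.style.haveILetI false

namespace CfsgLib.JOneCard

open CfsgLib.JOneOrder

universe u

variable {Q : Type u} [Group Q] [Finite Q]

/-- A group of order sixty with a self-centralizing element of order five and non-normal Sylow
subgroups of order five is simple. -/
theorem simple_sixty (hQ : Nat.card Q = 60) {x : Q} (hx : orderOf x = 5)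
    (hc : ∀ q, Commute q x → q ∈ Subgroup.zpowers x) : IsSimpleGroup Q := by
  classical
  haveI : Fact (Nat.Prime 5) := ⟨by norm_num⟩
  haveI : Fact (Nat.Prime 3) := ⟨Nat.prime_three⟩
  haveI : Nontrivial Q := Finite.one_lt_card_iff_nontrivial.mp (by rw [hQ]; norm_num)
  have small : ∀ N : Subgroup Q, N.Normal → ¬ 5 ∣ Nat.card N → Nat.card N % 5 = 1 := by
    intro N hN h5
    haveI := hN
    letI : MulAction (Subgroup.zpowers x) N :=
      MulAction.compHom N ((MulAut.conjNormal (H := N)).comp (Subgroup.zpowers x).subtype)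
    have hp : IsPGroup 5 (Subgroup.zpowers x) :=
      IsPGroup.of_card (n := 1) (by rw [Nat.card_zpowers, hx, pow_one])
    have h1 : Nat.card N ≡ _ [MOD 5] := hp.card_modEq_card_fixedPoints N
    have h2 : Nat.card (MulAction.fixedPoints (Subgroup.zpowers x) N) = 1 := by
      rw [Nat.card_eq_one_iff_unique]
      refine ⟨⟨fun a b => ?_⟩, ⟨⟨1, fun m => ?_⟩⟩⟩
      · have key : ∀ a : MulAction.fixedPoints (Subgroup.zpowers x) N, ((a : N) : Q) = 1 := by
          intro a
          have ha : x * ((a : N) : Q) * x⁻¹ = ((a : N) : Q) := by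
            have e := congrArg Subtype.val (a.2 ⟨x, Subgroup.mem_zpowers x⟩)
            exact (MulAut.conjNormal_apply x (a : N)).symm.trans e
          have hmem := hc _ (mul_inv_eq_iff_eq_mul.mp ha).symm
          have d1 := (Subgroup.zpowers x).orderOf_dvd_natCard hmem
          rw [Nat.card_zpowers, hx] at d1
          have d2 := N.orderOf_dvd_natCard (a : N).2
          rw [← orderOf_eq_one_iff]
          exact Nat.eq_one_of_dvd_coprimes
            ((Nat.Prime.coprime_iff_not_dvd (by norm_num : Nat.Prime 5)).mpr h5) d1 d2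
        exact Subtype.ext (Subtype.ext ((key a).trans (key b).symm))
      · exact Subtype.ext (by
          show ((MulAut.conjNormal (m : Q) : MulAut N) (1 : N) : Q) = ((1 : N) : Q)
          rw [map_one])
    rw [h2] at h1
    exact h1
  have noThree : ∀ N : Subgroup Q, N.Normal → ∀ R : Sylow 3 N, (R : Subgroup N).Normal →
      Nat.card (R : Subgroup N) = 3 → False := by
    intro N hN R hR h3
    haveI := hN
    haveI := hR
    haveI := R.characteristic_of_normal hR
    have hn : ((R : Subgroup N).map N.subtype).Normal := inferInstance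
    have hc3 : Nat.card ((R : Subgroup N).map N.subtype) = 3 := by
      rw [Subgroup.card_map_of_injective Subtype.val_injective, h3]
    have := small _ hn (by rw [hc3]; norm_num)
    rw [hc3] at this
    norm_num at this
  have card3 : ∀ N : Subgroup Q, 3 ∣ Nat.card N → ∀ R : Sylow 3 N, Nat.card (R : Subgroup N) = 3 := by
    intro N h3 R
    rw [R.card_eq_multiplicity]
    have h1 := (Nat.prime_three.pow_dvd_iff_le_factorization Nat.card_pos.ne').mp
      (show 3 ^ 1 ∣ Nat.card N by rwa [pow_one])
    have h2 : ¬ 2 ≤ (Nat.card N).factorization 3 := fun h => by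
      have := ((Nat.prime_three.pow_dvd_iff_le_factorization Nat.card_pos.ne').mpr h).trans
        (hQ ▸ Subgroup.card_subgroup_dvd_card N)
      norm_num at this
    rw [show (Nat.card N).factorization 3 = 1 by omega, pow_one]
  refine ⟨fun N hN => ?_⟩
  haveI := hN
  by_contra hne
  push Not at hne
  have hmul := N.card_mul_index
  rw [hQ] at hmul
  have hi2 : N.index ≠ 1 := fun h => hne.2 (Subgroup.index_eq_one.mp h)
  have hN2 : Nat.card N ≠ 1 := fun h => hne.1 (Subgroup.eq_bot_of_card_eq _ h)
  by_cases h5 : 5 ∣ Nat.card N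
  · -- twelve conjugates of `x` lie in `N`
    have h5i : ¬ 5 ∣ N.index := fun h => by
      have := Nat.mul_dvd_mul h5 h
      rw [hmul] at this
      norm_num at this
    have hxN : x ∈ N := by
      rw [← QuotientGroup.eq_one_iff, ← orderOf_eq_one_iff]
      refine Nat.eq_one_of_dvd_coprimes ((Nat.Prime.coprime_iff_not_dvd (by norm_num : Nat.Prime 5)).mpr h5i)
        (hx ▸ orderOf_map_dvd (QuotientGroup.mk' N) x) ?_
      exact orderOf_dvd_natCard _
    have hC : Nat.card (Subgroup.centralizer ({x} : Set Q)) = 5 := by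
      rw [← hx, ← Nat.card_zpowers]
      congr 1
      rw [show Subgroup.centralizer ({x} : Set Q) = Subgroup.zpowers x from le_antisymm
        (fun q hq => hc q (Subgroup.mem_centralizer_singleton_iff.mp hq))
        (Subgroup.zpowers_le.mpr (Subgroup.mem_centralizer_singleton_iff.mpr rfl))]
    have h12 : (Subgroup.centralizer ({x} : Set Q)).index = 12 := by
      have := (Subgroup.centralizer ({x} : Set Q)).card_mul_index
      rw [hC, hQ] at this
      omega
    have hcount : 12 ≤ Nat.card {z : N // orderOf z = 5} := by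
      rw [← h12, Subgroup.index]
      let f : Q ⧸ Subgroup.centralizer ({x} : Set Q) → {z : N // orderOf z = 5} :=
        Quotient.lift (fun g => ⟨⟨g * x * g⁻¹, hN.conj_mem x hxN g⟩, by
          rw [Subgroup.orderOf_mk, ← MulAut.conj_apply, MulEquiv.orderOf_eq, hx]⟩) fun g g' e => by
            have e' := Subgroup.mem_centralizer_singleton_iff.mp (QuotientGroup.leftRel_apply.mp e)
            refine Subtype.ext (Subtype.ext ?_)
            show g * x * g⁻¹ = g' * x * g'⁻¹
            calc g * x * g⁻¹ = g * (x * (g⁻¹ * g')) * g'⁻¹ := by group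
              _ = g * (g⁻¹ * g' * x) * g'⁻¹ := by rw [e']
              _ = g' * x * g'⁻¹ := by group
      refine Nat.card_le_card_of_injective f fun a b e => ?_
      induction a using QuotientGroup.induction_on with
      | H g =>
        induction b using QuotientGroup.induction_on with
        | H g' =>
          have e' : g * x * g⁻¹ = g' * x * g'⁻¹ := congrArg (fun z => ((z : N) : Q)) (congrArg Subtype.val e)
          rw [QuotientGroup.eq]
          refine Subgroup.mem_centralizer_singleton_iff.mpr ?_
          calc g⁻¹ * g' * x = g⁻¹ * (g' * x * g'⁻¹) * g' := by group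
            _ = x * (g⁻¹ * g') := by rw [← e']; group
    have hP : ∀ P : Sylow 5 N, Nat.card (P : Subgroup N) = 5 := fun P => by
      rw [P.card_eq_multiplicity]
      have h1 := ((Fact.out : Nat.Prime 5).pow_dvd_iff_le_factorization Nat.card_pos.ne').mp
        (show 5 ^ 1 ∣ Nat.card N by rwa [pow_one])
      have h2 : ¬ 2 ≤ (Nat.card N).factorization 5 := fun h => by
        have := (((Fact.out : Nat.Prime 5).pow_dvd_iff_le_factorization Nat.card_pos.ne').mpr h).trans
          (hQ ▸ Subgroup.card_subgroup_dvd_card N)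
        norm_num at this
      rw [show (Nat.card N).factorization 5 = 1 by omega, pow_one]
    rw [SmallOrder.card_orderOf_eq_prime hP] at hcount
    obtain ⟨P⟩ : Nonempty (Sylow 5 N) := inferInstance
    have hmod := card_sylow_modEq_one 5 N
    have hdvd := P.card_dvd_index
    have hPi := (P : Subgroup N).card_mul_index
    rw [hP] at hPi
    obtain ⟨a, ha⟩ := h5
    have hai : a * N.index = 12 := by rw [ha] at hmul; nlinarith
    have hPa : (P : Subgroup N).index = a := by omega
    rw [hPa] at hdvd
    have ha6 : a ∣ 12 := ⟨_, hai.symm⟩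
    have hale := Nat.le_of_dvd (by norm_num) ha6
    have hsle := Nat.le_of_dvd (Nat.pos_of_ne_zero fun h => by rw [h, zero_mul] at hai; omega) hdvd
    unfold Nat.ModEq at hmod
    have ha30 : a = 6 := by
      have hs : Nat.card (Sylow 5 N) = 6 ∨ Nat.card (Sylow 5 N) = 11 := by omega
      rcases hs with e | e <;> rw [e] at hdvd
      · rcases (show a = 6 ∨ a = 12 by omega) with e' | e'
        · exact e'
        · rw [e'] at hai; omega
      · rcases (show a = 11 by omega) with rfl
        norm_num at ha6
    have h3 : 3 ∣ Nat.card N := by rw [ha, ha30]; norm_num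
    obtain ⟨R⟩ : Nonempty (Sylow 3 N) := inferInstance
    have hR3 := card3 N h3 R
    have hn3 : Nat.card (Sylow 3 N) = 1 := by
      have d1 := R.card_dvd_index
      have hRi := (R : Subgroup N).card_mul_index
      rw [hR3, ha, ha30] at hRi
      rw [show (R : Subgroup N).index = 10 by omega] at d1
      have m1 := card_sylow_modEq_one 3 N
      unfold Nat.ModEq at m1
      have hle := Nat.le_of_dvd (by norm_num) d1
      rcases (show Nat.card (Sylow 3 N) = 1 ∨ Nat.card (Sylow 3 N) = 10 by
        generalize hq : Nat.card (Sylow 3 N) = q at d1 m1 hle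
        interval_cases q <;> omega) with e | e
      · exact e
      exfalso
      -- too many elements
      have h6 : Nat.card (Sylow 5 N) = 6 := by omega
      have c5 := SmallOrder.card_orderOf_eq_prime hP
      have c3 := SmallOrder.card_orderOf_eq_prime (q := 3) (card3 N h3)
      rw [h6] at c5
      rw [e] at c3
      have hs := five_sets (G := N) (fun z => orderOf z = 5) (fun z => orderOf z = 3) (fun _ => False)
        (fun _ => False) (fun _ => False) fun g =>
        ⟨fun h => ⟨fun h' => by omega, id, id, id⟩, fun _ => ⟨id, id, id⟩, fun _ => ⟨id, id⟩, False.elim⟩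
      omega
    haveI := Finite.card_le_one_iff_subsingleton.mp hn3.le
    exact noThree N hN R R.normal_of_subsingleton hR3
  · have h1 := small N hN h5
    have hd : Nat.card N ∣ 12 := ((Nat.Prime.coprime_iff_not_dvd (by norm_num : Nat.Prime 5)).mpr h5).symm.dvd_of_dvd_mul_right
      (show Nat.card N ∣ 12 * 5 by norm_num; exact hQ ▸ Subgroup.card_subgroup_dvd_card N)
    have h6 : Nat.card N = 6 := by
      have hle := Nat.le_of_dvd (by norm_num) hd
      generalize Nat.card N = q at hd hle h1 hN2
      interval_cases q <;> omega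
    obtain ⟨R⟩ : Nonempty (Sylow 3 N) := inferInstance
    have hR3 := card3 N (by rw [h6]; norm_num) R
    have hn3 : Nat.card (Sylow 3 N) = 1 := by
      have d1 := R.card_dvd_index
      have hRi := (R : Subgroup N).card_mul_index
      rw [hR3, h6] at hRi
      rw [show (R : Subgroup N).index = 2 by omega] at d1
      have m1 := card_sylow_modEq_one 3 N
      unfold Nat.ModEq at m1
      have := Nat.le_of_dvd (by norm_num) d1
      omega
    haveI := Finite.card_le_one_iff_subsingleton.mp hn3.le
    exact noThree N hN R R.normal_of_subsingleton hR3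

variable {G : Type u} [Group G] [Finite G] {x j : G}

/-- The centralizer. -/
theorem FiveInv.centralizer_equiv (h : FiveInv G x j) :
    Nonempty (Subgroup.centralizer ({j} : Set G) ≃*
      Multiplicative (ZMod 2) × alternatingGroup (Fin 5)) := by
  classical
  haveI : Fact (Nat.Prime 2) := ⟨Nat.prime_two⟩
  set H := Subgroup.centralizer ({j} : Set G) with hH
  let jH : H := ⟨j, Subgroup.mem_centralizer_singleton_iff.mpr rfl⟩
  let xH : H := ⟨x, Subgroup.mem_centralizer_singleton_iff.mpr h.comm.eq⟩
  have hjc : ∀ z : H, z * jH = jH * z := fun z =>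
    Subtype.ext (Subgroup.mem_centralizer_singleton_iff.mp z.2)
  have hjo : orderOf jH = 2 := (Subgroup.orderOf_mk _ _).trans h.hj
  have hxo : orderOf xH = 5 := (Subgroup.orderOf_mk _ _).trans h.hx
  set Z := Subgroup.zpowers jH with hZ
  haveI hZn : Z.Normal := ⟨fun a ha z => by
    obtain ⟨k, rfl⟩ := ha
    have : Commute z (jH ^ k) := (show Commute z jH from hjc z).zpow_right k
    show z * jH ^ k * z⁻¹ ∈ Z
    rw [this.eq, mul_inv_cancel_right]
    exact Subgroup.zpow_mem_zpowers jH k⟩
  have hZ2 : Nat.card Z = 2 := by rw [Nat.card_zpowers, hjo]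
  have hQc : Nat.card (H ⧸ Z) = 60 := by
    have := Subgroup.card_eq_card_quotient_mul_card_subgroup Z
    rw [hZ2, h.card_C] at this
    omega
  set xq : H ⧸ Z := QuotientGroup.mk' Z xH with hxq
  have hxqo : orderOf xq = 5 := by
    haveI : Fact (Nat.Prime 5) := ⟨by norm_num⟩
    refine orderOf_eq_prime (by rw [hxq, ← map_pow, ← hxo, pow_orderOf_eq_one, map_one]) fun e => ?_
    have := Z.orderOf_dvd_natCard ((QuotientGroup.eq_one_iff _).mp e)
    rw [hxo, hZ2] at this
    norm_num at this
  -- the centralizer of `x` and `j`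
  set C := Subgroup.centralizer ({x} : Set G) with hC
  set K := C ⊓ H with hK
  have hxjK : x * j ∈ K := ⟨Subgroup.mem_centralizer_singleton_iff.mpr (by
    rw [mul_assoc, h.comm.symm.eq]), Subgroup.mem_centralizer_singleton_iff.mpr (by
    rw [← mul_assoc, ← h.comm.eq])⟩
  have hxj : orderOf (x * j) = 10 := by
    rw [h.comm.orderOf_mul_eq_mul_orderOf_of_coprime (by rw [h.hx, h.hj]; norm_num), h.hx, h.hj]
  have hK10 : Subgroup.zpowers (x * j) = K := by
    refine Subgroup.eq_of_le_of_card_ge (Subgroup.zpowers_le.mpr hxjK) ?_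
    rw [Nat.card_zpowers, hxj]
    have h30 : Nat.card K ∣ 30 := h.card_x ▸ Subgroup.card_dvd_of_le inf_le_left
    have h3 : ¬ 3 ∣ Nat.card K := fun h3 => by
      haveI : Fact (Nat.Prime 3) := ⟨Nat.prime_three⟩
      obtain ⟨⟨v, hv⟩, hvo⟩ := exists_prime_orderOf_dvd_card' 3 h3
      rw [Subgroup.orderOf_mk] at hvo
      exact h.no_three v (Subgroup.mem_centralizer_singleton_iff.mp hv.1).symm
        (Subgroup.mem_centralizer_singleton_iff.mp hv.2).symm hvo
    exact Nat.le_of_dvd (by norm_num) (((Nat.Prime.coprime_iff_not_dvd Nat.prime_three).mpr h3).symm.dvd_of_dvd_mul_right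
      (show Nat.card K ∣ 10 * 3 from h30))
  haveI := simple_sixty hQc hxqo fun q hq => by
    induction q using QuotientGroup.induction_on with
    | H z =>
      have hzz : (z * xH * z⁻¹) * xH⁻¹ ∈ Z := by
        rw [← QuotientGroup.eq_one_iff]
        show QuotientGroup.mk' Z _ = 1
        rw [map_mul, map_mul, map_mul, map_inv, map_inv]
        show (z : H ⧸ Z) * xq * (z : H ⧸ Z)⁻¹ * xq⁻¹ = 1
        rw [hq.eq, mul_inv_cancel_right, mul_inv_cancel]
      obtain ⟨m, hm, e⟩ : ∃ m, m < 2 ∧ jH ^ m = (z * xH * z⁻¹) * xH⁻¹ := by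
        obtain ⟨m, hm⟩ := mem_powers_iff_mem_zpowers.mpr hzz
        exact ⟨m % 2, Nat.mod_lt _ (by norm_num), by
          rw [← hm, ← hjo]; exact (pow_mod_orderOf jH m)⟩
      interval_cases m
      · rw [pow_zero] at e
        have hc : Commute x (z : G) := by
          have h1 : z * xH * z⁻¹ = xH := mul_inv_eq_one.mp e.symm
          exact (congrArg Subtype.val (mul_inv_eq_iff_eq_mul.mp h1)).symm
        have hzK : (z : G) ∈ K := ⟨Subgroup.mem_centralizer_singleton_iff.mpr hc.symm.eq, z.2⟩
        rw [← hK10] at hzK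
        obtain ⟨k, hk⟩ := mem_powers_iff_mem_zpowers.mpr hzK
        have hz : z = (xH * jH) ^ k := Subtype.ext (by simpa [xH, jH] using hk.symm)
        refine ⟨(k : ℤ), ?_⟩
        show xq ^ (k : ℤ) = QuotientGroup.mk' Z z
        rw [hz, map_pow, map_mul, zpow_natCast,
          show QuotientGroup.mk' Z jH = 1 from (QuotientGroup.eq_one_iff _).mpr (Subgroup.mem_zpowers _),
          mul_one]
      · exfalso
        rw [pow_one, eq_mul_inv_iff_mul_eq] at e
        have h10 : orderOf (jH * xH) = 10 := by
          rw [(show Commute jH xH from (hjc xH).symm).orderOf_mul_eq_mul_orderOf_of_coprime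
            (by rw [hjo, hxo]; norm_num), hjo, hxo]
        rw [e, ← MulAut.conj_apply, MulEquiv.orderOf_eq, hxo] at h10
        norm_num at h10
  obtain ⟨α⟩ := Cfsg.Agent.S0494.result hQc
  -- the complement
  set D := commutator H with hD
  have hjD : jH ∉ D := by
    intro hjD
    obtain ⟨T⟩ : Nonempty (Sylow 2 H) := inferInstance
    obtain ⟨S, hS⟩ := (T.2.map H.subtype).exists_le_sylow
    have hsq : ∀ a ∈ (T : Subgroup H), a * a = 1 := fun a ha =>
      Subtype.ext (h.squares S _ (hS ⟨a, ha, rfl⟩))
    have hTc : IsMulCommutative (T : Subgroup H) := ⟨⟨fun a b => Subtype.ext (by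
      have h1 := hsq _ a.2
      have h2 := hsq _ b.2
      have h3 := hsq _ (mul_mem a.2 b.2)
      calc (a : H) * b = ((a : H) * b)⁻¹ := (inv_eq_of_mul_eq_one_right h3).symm
        _ = b * a := by
          rw [mul_inv_rev, inv_eq_of_mul_eq_one_right h1, inv_eq_of_mul_eq_one_right h2])⟩⟩
    have hjT : jH ∈ (T : Subgroup H) := mem_of_normalizer T
      (mem_normalizer_of_conj fun z hz => by
        rwa [← hjc z, mul_inv_cancel_right]) (k := 1) (by rw [hjo, pow_one])
    have hj1 := Transfer.eq_one_of_abelian_sylow T hTc hjT (fun n _ => hjc n) hjD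
    rw [hj1, orderOf_one] at hjo
    norm_num at hjo
  have hinf : ∀ z ∈ D, z ∈ Z → z = 1 := by
    intro z hzD hzZ
    obtain ⟨m, hm⟩ := mem_powers_iff_mem_zpowers.mpr hzZ
    change jH ^ m = z at hm
    rw [← pow_mod_orderOf, hjo] at hm
    rcases Nat.mod_two_eq_zero_or_one m with e | e <;> rw [e] at hm
    · rw [← hm, pow_zero]
    · rw [pow_one] at hm
      exact absurd (hm ▸ hzD) hjD
  have hDtop : D.map (QuotientGroup.mk' Z) = ⊤ := by
    have hperf : commutator (H ⧸ Z) = ⊤ :=
      commutator_top (SmallOrder.not_comm_of_not_prime (by rw [hQc]; norm_num))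
    rw [hD, commutator_def, Subgroup.map_commutator,
      Subgroup.map_top_of_surjective _ (QuotientGroup.mk'_surjective Z), ← commutator_def, hperf]
  have hDc : Nat.card D = 60 := by
    refine le_antisymm ?_ ?_
    · rw [← hQc]
      refine Nat.card_le_card_of_injective (fun d : D => QuotientGroup.mk' Z d) fun a b e => ?_
      have h1 : ((a : H)⁻¹ * b) = 1 := hinf _ (mul_mem (inv_mem a.2) b.2) (QuotientGroup.eq.mp e)
      exact Subtype.ext (inv_mul_eq_one.mp h1)
    · have h1 := Subgroup.card_map_dvd (f := QuotientGroup.mk' Z) D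
      rw [hDtop, Subgroup.card_top, hQc] at h1
      exact Nat.le_of_dvd Nat.card_pos h1
  have hD2 : Nat.card (H ⧸ D) = 2 := by
    have := Subgroup.card_eq_card_quotient_mul_card_subgroup D
    rw [hDc, h.card_C] at this
    omega
  let Φ : H →* (H ⧸ D) × (H ⧸ Z) := (QuotientGroup.mk' D).prod (QuotientGroup.mk' Z)
  have hΦ : Function.Bijective Φ := by
    rw [Nat.bijective_iff_injective_and_card]
    refine ⟨(injective_iff_map_eq_one Φ).mpr fun z hz => ?_, ?_⟩
    · exact hinf z ((QuotientGroup.eq_one_iff _).mp (congrArg Prod.fst hz))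
        ((QuotientGroup.eq_one_iff _).mp (congrArg Prod.snd hz))
    · rw [Nat.card_prod, hD2, hQc, h.card_C]
  have h2 : Nat.card (Multiplicative (ZMod 2)) = 2 := Nat.card_zmod 2
  exact ⟨(MulEquiv.ofBijective Φ hΦ).trans ((mulEquivOfPrimeCardEq hD2 h2).prodCongr α)⟩

end CfsgLib.JOneCard
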