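import Cfsg.Agent.Lib.BrauerTuan.Cross
import Cfsg.Agent.Lib.SmallOrder.PrimeDegree

/-!
# Counting elements by the primes dividing their orders
-/

set_option autoImplicit false
set_option linter.style.haveILetI false

namespace CfsgLib.JOneCard

universe u

variable {G : Type u} [Group G] [Finite G] {p q : ℕ} [Fact p.Prime]

/-- A Sylow `p`-subgroup of order `p`, their number `c` and the cofactor `k` of its centralizer. -/
structure Loc (G : Type u) [Group G] (p c k : ℕ) where
  P : Sylow p G
  card_P : Nat.card (P : Subgroup G) = p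
  card_C : Nat.card (Subgroup.centralizer ((P : Subgroup G) : Set G)) = p * k
  card_sylow : Nat.card (Sylow p G) = c
  not_dvd : ¬ p ∣ k

theorem centralizer_conj (P Q : Sylow p G) :
    Nat.card (Subgroup.centralizer ((P : Subgroup G) : Set G)) =
      Nat.card (Subgroup.centralizer ((Q : Subgroup G) : Set G)) := by
  obtain ⟨g, rfl⟩ := MulAction.exists_smul_eq G P Q
  refine Nat.card_congr ((MulAut.conj g).toEquiv.subtypeEquiv fun x => ?_)
  rw [Subgroup.mem_centralizer_iff, Subgroup.mem_centralizer_iff, Sylow.coe_subgroup_smul]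
  constructor
  · rintro h _ ⟨y, hy, rfl⟩
    show (MulAut.conj g) y * (MulAut.conj g) x = (MulAut.conj g) x * (MulAut.conj g) y
    rw [← map_mul, ← map_mul, h y hy]
  · intro h y hy
    have h1 : (MulAut.conj g) y * (MulAut.conj g) x = (MulAut.conj g) x * (MulAut.conj g) y :=
      h _ ⟨y, hy, rfl⟩
    exact (MulAut.conj g).injective (by rw [map_mul, map_mul, h1])

theorem normalizer_card (P : Sylow p G) :
    Nat.card (Subgroup.normalizer ((P : Subgroup G) : Set G)) * Nat.card (Sylow p G) = Nat.card G := by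
  rw [P.card_eq_index_normalizer]; exact Subgroup.card_mul_index _

namespace Loc

variable {c k : ℕ} (L : Loc G p c k)

include L

theorem card_sylowP (Q : Sylow p G) : Nat.card (Q : Subgroup G) = p := by
  rw [Q.card_eq_multiplicity, ← L.P.card_eq_multiplicity, L.card_P]

theorem card_cent (Q : Sylow p G) :
    Nat.card (Subgroup.centralizer ((Q : Subgroup G) : Set G)) = p * k :=
  (centralizer_conj Q L.P).trans L.card_C

theorem exists_sylow {u : G} (hu : orderOf u = p) : ∃ Q : Sylow p G, (Q : Subgroup G) = Subgroup.zpowers u := by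
  obtain ⟨Q, hQ⟩ := (IsPGroup.of_card (p := p) (n := 1)
    (show Nat.card (Subgroup.zpowers u) = p ^ 1 by rw [Nat.card_zpowers, hu, pow_one])).exists_le_sylow
  exact ⟨Q, (Subgroup.eq_of_le_of_card_ge hQ (by rw [L.card_sylowP, Nat.card_zpowers, hu])).symm⟩

theorem card_cent_elem {u : G} (hu : orderOf u = p) :
    Nat.card (Subgroup.centralizer ({u} : Set G)) = p * k := by
  obtain ⟨Q, hQ⟩ := L.exists_sylow hu
  rw [← L.card_cent Q, hQ, Subgroup.zpowers_eq_closure, Subgroup.centralizer_closure]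

theorem card_norm_elem {u : G} (hu : orderOf u = p) :
    Nat.card (Subgroup.normalizer ((Subgroup.zpowers u : Subgroup G) : Set G)) * c = Nat.card G := by
  obtain ⟨Q, hQ⟩ := L.exists_sylow hu
  rw [← hQ, ← L.card_sylow]; exact normalizer_card Q

theorem dvd_of_commute {u v : G} (hu : orderOf u = p) (hv : (orderOf v).Prime)
    (hne : orderOf v ≠ p) (hc : Commute u v) : orderOf v ∣ k := by
  have h := (Subgroup.centralizer ({u} : Set G)).orderOf_dvd_natCard
    (Subgroup.mem_centralizer_singleton_iff.mpr hc.symm.eq)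
  rw [L.card_cent_elem hu] at h
  exact ((Nat.Prime.dvd_mul hv).mp h).resolve_left fun h' =>
    hne ((Nat.prime_dvd_prime_iff_eq hv Fact.out).mp h')

/-- An element of order divisible by `p` and `q` gives `q ∣ k`. -/
theorem disj (hq : q.Prime) (hqp : q ≠ p) (hk : ¬ q ∣ k) {g : G} (h1 : p ∣ orderOf g) :
    ¬ q ∣ orderOf g := fun h2 => by
  have hu : orderOf (g ^ (orderOf g / p)) = p := orderOf_pow_orderOf_div (orderOf_pos g).ne' h1
  have hv : orderOf (g ^ (orderOf g / q)) = q := orderOf_pow_orderOf_div (orderOf_pos g).ne' h2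
  have := L.dvd_of_commute hu (hv.symm ▸ hq) (hv.symm ▸ hqp) ((Commute.refl g).pow_pow _ _)
  exact hk (hv ▸ this)

/-- The elements of order divisible by `p`. -/
theorem count : c * ((p - 1) * k) ≤ Nat.card {g : G // p ∣ orderOf g} := by
  classical
  have hp : p.Prime := Fact.out
  have hK : ∀ Q : Sylow p G, ∃ K : Subgroup G, Nat.card K = k ∧
      K ≤ Subgroup.centralizer ((Q : Subgroup G) : Set G) := by
    intro Q
    set C := Subgroup.centralizer ((Q : Subgroup G) : Set G)
    have hle : (Q : Subgroup G) ≤ C := by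
      haveI : IsCyclic (Q : Subgroup G) := isCyclic_of_prime_card (L.card_sylowP Q)
      exact fun a ha => Subgroup.mem_centralizer_iff.mpr fun b hb =>
        congrArg Subtype.val ((IsCyclic.commGroup (α := (Q : Subgroup G))).mul_comm ⟨b, hb⟩ ⟨a, ha⟩)
    haveI : ((Q : Subgroup G).subgroupOf C).Normal :=
      ⟨fun a ha z => by
        have : z * a * z⁻¹ = a := Subtype.ext (by
          show (z : G) * a * (z : G)⁻¹ = a
          rw [show (z : G) * (a : G) = (a : G) * z from (Subgroup.mem_centralizer_iff.mp z.2 (a : G) ha).symm, mul_inv_cancel_right])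
        rwa [this]⟩
    have hN : Nat.card ((Q : Subgroup G).subgroupOf C) = p := by
      rw [Nat.card_congr (Subgroup.subgroupOfEquivOfLe hle).toEquiv, L.card_sylowP]
    have hi : ((Q : Subgroup G).subgroupOf C).index = k := by
      have h1 := ((Q : Subgroup G).subgroupOf C).card_mul_index
      rw [hN, L.card_cent] at h1
      exact Nat.eq_of_mul_eq_mul_left hp.pos h1
    obtain ⟨H, hH⟩ := Subgroup.exists_right_complement'_of_coprime
      (N := (Q : Subgroup G).subgroupOf C) (by
        rw [hN, hi]; exact hp.coprime_iff_not_dvd.mpr L.not_dvd)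
    refine ⟨H.map C.subtype, ?_, Subgroup.map_subtype_le _⟩
    rw [Subgroup.card_map_of_injective Subtype.val_injective]
    have h1 := hH.card_mul
    rw [hN, L.card_cent] at h1
    exact Nat.eq_of_mul_eq_mul_left hp.pos h1
  choose K hKc hKC using hK
  let F : (Σ Q : Sylow p G, {a : (Q : Subgroup G) // a ≠ 1} × K Q) → {g : G // p ∣ orderOf g} :=
    fun z => ⟨(z.2.1.1 : G) * z.2.2, by
      have ha : orderOf ((z.2.1.1 : G)) = p := by
        have h1 := (z.1 : Subgroup G).orderOf_dvd_natCard z.2.1.1.2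
        rw [L.card_sylowP] at h1
        exact ((Nat.dvd_prime hp).mp h1).resolve_left fun e =>
          z.2.1.2 (Subtype.ext (orderOf_eq_one_iff.mp e))
      have hb : orderOf (z.2.2 : G) ∣ k := hKc z.1 ▸ (K z.1).orderOf_dvd_natCard z.2.2.2
      have hc : Commute ((z.2.1.1 : G)) (z.2.2 : G) :=
        Subgroup.mem_centralizer_iff.mp (hKC z.1 z.2.2.2) _ z.2.1.1.2
      rw [hc.orderOf_mul_eq_mul_orderOf_of_coprime (by
        rw [ha]; exact hp.coprime_iff_not_dvd.mpr fun e => L.not_dvd (e.trans hb)), ha]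
      exact dvd_mul_right _ _⟩
  have hinj : Function.Injective F := by
    rintro ⟨Q, ⟨⟨a, haQ⟩, ha1⟩, ⟨b, hb⟩⟩ ⟨Q', ⟨⟨a', haQ'⟩, ha1'⟩, ⟨b', hb'⟩⟩ e
    have e1 : a * b = a' * b' := congrArg Subtype.val e
    have hpow : ∀ (R : Sylow p G) (a b : G), a ∈ (R : Subgroup G) → b ∈ K R → a ≠ 1 →
        (a * b) ^ k = a ^ k ∧ a ^ k ≠ 1 ∧ orderOf a = p := by
      intro R a b ha hb ha1
      have hao : orderOf a = p := by
        have h1 := (R : Subgroup G).orderOf_dvd_natCard ha
        rw [L.card_sylowP] at h1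
        exact ((Nat.dvd_prime hp).mp h1).resolve_left fun e => ha1 (orderOf_eq_one_iff.mp e)
      have hbk : b ^ k = 1 :=
        orderOf_dvd_iff_pow_eq_one.mp (hKc R ▸ (K R).orderOf_dvd_natCard hb)
      refine ⟨?_, fun e => L.not_dvd (hao ▸ orderOf_dvd_of_pow_eq_one e), hao⟩
      rw [(show Commute a b from Subgroup.mem_centralizer_iff.mp (hKC R hb) a ha).mul_pow, hbk, mul_one]
    obtain ⟨p1, n1, o1⟩ := hpow Q a b haQ hb fun e => ha1 (Subtype.ext e)
    obtain ⟨p2, n2, o2⟩ := hpow Q' a' b' haQ' hb' fun e => ha1' (Subtype.ext e)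
    have eak : a ^ k = a' ^ k := by rw [← p1, ← p2, e1]
    have gen : ∀ (R : Sylow p G) (a : G), a ∈ (R : Subgroup G) → a ^ k ≠ 1 →
        (R : Subgroup G) = Subgroup.zpowers (a ^ k) := fun R a ha hne =>
      (Subgroup.eq_of_le_of_card_ge (Subgroup.zpowers_le.mpr (pow_mem ha k)) (by
        rw [Nat.card_zpowers, L.card_sylowP]
        refine le_of_eq ?_
        have h1 := (R : Subgroup G).orderOf_dvd_natCard (pow_mem ha k)
        rw [L.card_sylowP] at h1
        exact (((Nat.dvd_prime hp).mp h1).resolve_left fun e =>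
          hne (orderOf_eq_one_iff.mp e)).symm)).symm
    obtain rfl : Q = Q' := Sylow.ext ((gen Q a haQ n1).trans (eak ▸ (gen Q' a' haQ' n2).symm))
    obtain ⟨j, hj⟩ := exists_pow_eq_self_of_coprime (x := a) (n := k) (by
      rw [o1]; exact ((hp.coprime_iff_not_dvd).mpr L.not_dvd).symm)
    obtain ⟨j', hj'⟩ := exists_pow_eq_self_of_coprime (x := a') (n := k) (by
      rw [o2]; exact ((hp.coprime_iff_not_dvd).mpr L.not_dvd).symm)
    have ea : a = a' := by
      have h2 : a' ∈ Subgroup.zpowers a := by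
        rw [← hj']; exact pow_mem (eak ▸ Subgroup.npow_mem_zpowers a k) _
      obtain ⟨i, rfl⟩ := mem_powers_iff_mem_zpowers.mpr h2
      have h3 : (a ^ i) ^ k = a ^ k := eak.symm
      calc a = (a ^ k) ^ j := hj.symm
        _ = ((a ^ i) ^ k) ^ j := by rw [h3]
        _ = ((a ^ k) ^ j) ^ i := by rw [← pow_mul, ← pow_mul, ← pow_mul, ← pow_mul]; ring_nf
        _ = a ^ i := by rw [hj]
    subst ea
    obtain rfl := mul_left_cancel e1
    rfl
  refine le_trans ?_ (Nat.card_le_card_of_injective F hinj)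
  haveI := Fintype.ofFinite (Sylow p G)
  rw [Nat.card_sigma, Finset.sum_congr rfl (g := fun _ => (p - 1) * k), Finset.sum_const,
    Finset.card_univ, ← Nat.card_eq_fintype_card, L.card_sylow, smul_eq_mul]
  intro Q _
  haveI := Fintype.ofFinite (Q : Subgroup G)
  rw [Nat.card_prod, hKc, Nat.card_eq_fintype_card, Fintype.card_subtype_compl,
    Fintype.card_subtype_eq, ← Nat.card_eq_fintype_card, L.card_sylowP]

theorem swap {c' k' : ℕ} [Fact q.Prime] (M : Loc G q c' k') (hne : p ≠ q) (h : q ∣ k) : p ∣ k' := by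
  have h1 := BrauerTuan.dvd_card_centralizer_swap L.P M.P L.card_P M.card_P
    (by rw [L.card_C]; exact h.mul_left p)
  rw [M.card_C] at h1
  exact ((Nat.Prime.dvd_mul Fact.out).mp h1).resolve_left fun h' =>
    hne ((Nat.prime_dvd_prime_iff_eq Fact.out Fact.out).mp h')

end Loc

/-- Five pairwise disjoint sets. -/
theorem five_sets (A B C D E : G → Prop) (h : ∀ g, (A g → ¬ B g ∧ ¬ C g ∧ ¬ D g ∧ ¬ E g) ∧
    (B g → ¬ C g ∧ ¬ D g ∧ ¬ E g) ∧ (C g → ¬ D g ∧ ¬ E g) ∧ (D g → ¬ E g)) :
    Nat.card {g // A g} + Nat.card {g // B g} + Nat.card {g // C g} + Nat.card {g // D g} +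
      Nat.card {g // E g} ≤ Nat.card G := by
  classical
  haveI := Fintype.ofFinite G
  simp only [Nat.card_eq_fintype_card, Fintype.card_subtype, Finset.card_filter,
    ← Finset.sum_add_distrib]
  rw [← Finset.card_univ, Finset.card_eq_sum_ones]
  refine Finset.sum_le_sum fun g _ => ?_
  obtain ⟨h1, h2, h3, h4⟩ := h g
  split_ifs <;> simp_all

end CfsgLib.JOneCard
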