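import Cfsg.Agent.Lib.BrauerTuan.Orders
import Cfsg.Agent.Lib.JOneCard.Count

/-!
# The Sylow numbers and centralizers of a simple group of order 175560
-/

set_option autoImplicit false
set_option linter.style.haveILetI false
set_option maxRecDepth 100000

namespace CfsgLib.JOneCard

open CfsgLib.BrauerTuan

universe u

variable {G : Type u} [Group G] [Finite G] [IsSimpleGroup G]

theorem exists_loc (hg : Nat.card G = 175560) (p : ℕ) [Fact p.Prime] (qs : List ℕ)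
    (L : List (ℕ × ℕ × ℕ)) (hp : p ∈ [3, 5, 7, 11, 19]) (hqs : ∀ q ∈ qs, q ∈ [3, 5, 7, 11, 19])
    (h : orderBad 175560 p qs 419 L = true) (hk : ∀ x ∈ L, ¬ p ∣ x.2.2) :
    ∃ c e k, (c, e, k) ∈ L ∧ Nonempty (Loc G p c k) := by
  classical
  letI := Fintype.ofFinite G
  have hall : ∀ q ∈ [3, 5, 7, 11, 19], Nat.Prime q ∧ q ∣ 175560 ∧ ¬ q * q ∣ 175560 := by
    intro q hq
    simp only [List.mem_cons, List.not_mem_nil, or_false] at hq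
    rcases hq with rfl | rfl | rfl | rfl | rfl <;> norm_num
  obtain ⟨h1, h2, h3⟩ := hall p hp
  obtain ⟨k, T, hT⟩ := exists_ctx_of_orderBad hg p qs 419 L h1 (by norm_num) h2 h3 (by norm_num)
    (fun q hq => hall q (hqs q hq)) h
  exact ⟨_, _, _, hT, ⟨⟨T.P, T.card_P, T.card_C, T.D.card_sylow, hk _ hT⟩⟩⟩

/-- A lower bound for the five sets. -/
theorem total {c₁₉ k₁₉ c₁₁ k₁₁ c₇ k₇ c₅ k₅ : ℕ} [Fact (Nat.Prime 19)] [Fact (Nat.Prime 11)]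
    [Fact (Nat.Prime 7)] [Fact (Nat.Prime 5)]
    (hg : Nat.card G = 175560) (L₁₉ : Loc G 19 c₁₉ k₁₉) (L₁₁ : Loc G 11 c₁₁ k₁₁)
    (L₇ : Loc G 7 c₇ k₇) (L₅ : Loc G 5 c₅ k₅) (E : G → Prop)
    (a : ¬ 11 ∣ k₁₉) (b : ¬ 7 ∣ k₁₉) (c : ¬ 5 ∣ k₁₉) (d : ¬ 7 ∣ k₁₁) (e : ¬ 11 ∣ k₅)
    (f : ¬ 5 ∣ k₇) (hE : ∀ g, E g → ¬ 19 ∣ orderOf g ∧ ¬ 11 ∣ orderOf g ∧ ¬ 7 ∣ orderOf g ∧
      ¬ 5 ∣ orderOf g) :
    c₁₉ * (18 * k₁₉) + c₁₁ * (10 * k₁₁) + c₇ * (6 * k₇) + c₅ * (4 * k₅) +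
      Nat.card {g // E g} ≤ 175560 := by
  have h1 := L₁₉.count
  have h2 := L₁₁.count
  have h3 := L₇.count
  have h4 := L₅.count
  have h5 := five_sets (fun g : G => 19 ∣ orderOf g) (fun g => 11 ∣ orderOf g)
    (fun g => 7 ∣ orderOf g) (fun g => 5 ∣ orderOf g) E fun g =>
    ⟨fun h => ⟨L₁₉.disj (by norm_num) (by norm_num) a h, L₁₉.disj (by norm_num) (by norm_num) b h,
        L₁₉.disj (by norm_num) (by norm_num) c h, fun h' => (hE g h').1 h⟩,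
      fun h => ⟨L₁₁.disj (by norm_num) (by norm_num) d h,
        fun h' => L₅.disj (by norm_num) (by norm_num) e h' h, fun h' => (hE g h').2.1 h⟩,
      fun h => ⟨L₇.disj (by norm_num) (by norm_num) f h, fun h' => (hE g h').2.2.1 h⟩,
      fun h h' => (hE g h').2.2.2 h⟩
  rw [hg] at h5
  norm_num at h1 h2 h3 h4 h5 ⊢
  omega

theorem opt19 {c e k : ℕ} (h : (c, e, k) ∈ [(1540, 2, 3), (1540, 6, 1)]) :
    c = 1540 ∧ (k = 3 ∨ k = 1) := by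
  simp only [List.mem_cons, List.not_mem_nil, or_false, Prod.mk.injEq] at h
  rcases h with ⟨rfl, -, rfl⟩ | ⟨rfl, -, rfl⟩ <;> simp

theorem opt11 {c e k : ℕ} (h : (c, e, k) ∈ [(1596, 2, 5), (1596, 5, 2), (1596, 10, 1)]) :
    c = 1596 ∧ (k = 5 ∨ k = 2 ∨ k = 1) := by
  simp only [List.mem_cons, List.not_mem_nil, or_false, Prod.mk.injEq] at h
  rcases h with ⟨rfl, -, rfl⟩ | ⟨rfl, -, rfl⟩ | ⟨rfl, -, rfl⟩ <;> simp

theorem opt7 {c e k l : ℕ}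
    (h : (c, e, k) ∈ [(190, 2, 66), (190, 6, 22), (4180, 2, 3), (4180, 3, 2), (4180, 6, 1)])
    (hl : l = 5 ∨ l = 2 ∨ l = 1) (hs : 11 ∣ k → 7 ∣ l) :
    c = 4180 ∧ (k = 3 ∨ k = 2 ∨ k = 1) := by
  simp only [List.mem_cons, List.not_mem_nil, or_false, Prod.mk.injEq] at h
  rcases h with ⟨rfl, -, rfl⟩ | ⟨rfl, -, rfl⟩ | ⟨rfl, -, rfl⟩ | ⟨rfl, -, rfl⟩ | ⟨rfl, -, rfl⟩ <;>
    omega

theorem opt3 {c e k : ℕ} (h : (c, e, k) ∈ [(55, 2, 532), (190, 2, 154), (220, 2, 133),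
    (385, 2, 76), (1045, 2, 28), (1330, 2, 22), (1540, 2, 19), (2926, 2, 10), (4180, 2, 7),
    (7315, 2, 4), (29260, 2, 1)]) : c * ((3 - 1) * k) = 58520 := by
  simp only [List.mem_cons, List.not_mem_nil, or_false, Prod.mk.injEq] at h
  rcases h with ⟨rfl, -, rfl⟩ | ⟨rfl, -, rfl⟩ | ⟨rfl, -, rfl⟩ | ⟨rfl, -, rfl⟩ | ⟨rfl, -, rfl⟩ |
    ⟨rfl, -, rfl⟩ | ⟨rfl, -, rfl⟩ | ⟨rfl, -, rfl⟩ | ⟨rfl, -, rfl⟩ | ⟨rfl, -, rfl⟩ |
    ⟨rfl, -, rfl⟩ <;> norm_num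

theorem opt3five {c e k : ℕ} (h : (c, e, k) ∈ [(55, 2, 532), (190, 2, 154), (220, 2, 133),
    (385, 2, 76), (1045, 2, 28), (1330, 2, 22), (1540, 2, 19), (2926, 2, 10), (4180, 2, 7),
    (7315, 2, 4), (29260, 2, 1)]) (h5 : 5 ∣ k) : c = 2926 ∧ k = 10 := by
  simp only [List.mem_cons, List.not_mem_nil, or_false, Prod.mk.injEq] at h
  rcases h with ⟨rfl, -, rfl⟩ | ⟨rfl, -, rfl⟩ | ⟨rfl, -, rfl⟩ | ⟨rfl, -, rfl⟩ | ⟨rfl, -, rfl⟩ |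
    ⟨rfl, -, rfl⟩ | ⟨rfl, -, rfl⟩ | ⟨rfl, -, rfl⟩ | ⟨rfl, -, rfl⟩ | ⟨rfl, -, rfl⟩ |
    ⟨rfl, -, rfl⟩ <;> omega

theorem opt5a {c e k c' e' k' : ℕ} (h : (c, e, k) ∈ [(66, 2, 266), (231, 2, 76), (231, 4, 38),
    (266, 4, 33), (1596, 2, 11), (2926, 2, 6), (2926, 4, 3), (17556, 2, 1)])
    (h' : (c', e', k') ∈ [(55, 2, 532), (190, 2, 154), (220, 2, 133), (385, 2, 76), (1045, 2, 28),
      (1330, 2, 22), (1540, 2, 19), (2926, 2, 10), (4180, 2, 7), (7315, 2, 4), (29260, 2, 1)])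
    (hs : 19 ∣ k → 5 ∣ 3) (hs' : 3 ∣ k → 5 ∣ k') (h19 : 19 ∣ k') :
    (c = 1596 ∧ k = 11) ∨ (c = 17556 ∧ k = 1) := by
  have hno : ¬ 5 ∣ k' := fun h5 => by
    have := (opt3five h' h5).2
    omega
  simp only [List.mem_cons, List.not_mem_nil, or_false, Prod.mk.injEq] at h
  clear h'
  rcases h with ⟨rfl, -, rfl⟩ | ⟨rfl, -, rfl⟩ | ⟨rfl, -, rfl⟩ | ⟨rfl, -, rfl⟩ | ⟨rfl, -, rfl⟩ |
    ⟨rfl, -, rfl⟩ | ⟨rfl, -, rfl⟩ | ⟨rfl, -, rfl⟩ <;> omega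

theorem opt5b {c e k l : ℕ} (h : (c, e, k) ∈ [(66, 2, 266), (231, 2, 76), (231, 4, 38),
    (266, 4, 33), (1596, 2, 11), (2926, 2, 6), (2926, 4, 3), (17556, 2, 1)])
    (hs : 19 ∣ k → 5 ∣ 1) (hs' : 11 ∣ k → 5 ∣ l) (hl : ¬ 5 ∣ l) :
    (c = 2926 ∧ (k = 3 ∨ k = 6)) ∨ (c = 17556 ∧ k = 1) := by
  simp only [List.mem_cons, List.not_mem_nil, or_false, Prod.mk.injEq] at h
  rcases h with ⟨rfl, -, rfl⟩ | ⟨rfl, -, rfl⟩ | ⟨rfl, -, rfl⟩ | ⟨rfl, -, rfl⟩ | ⟨rfl, -, rfl⟩ |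
    ⟨rfl, -, rfl⟩ | ⟨rfl, -, rfl⟩ | ⟨rfl, -, rfl⟩ <;> omega

/-- The numerical facts. -/
theorem exists_locs (hg : Nat.card G = 175560) [Fact (Nat.Prime 19)] [Fact (Nat.Prime 11)]
    [Fact (Nat.Prime 7)] [Fact (Nat.Prime 5)] [Fact (Nat.Prime 3)] :
    ∃ k₁₁ k₇ k₅, (k₁₁ = 1 ∨ k₁₁ = 2) ∧ (k₇ = 1 ∨ k₇ = 2) ∧ (k₅ = 3 ∨ k₅ = 6) ∧
      Nonempty (Loc G 19 1540 1) ∧ Nonempty (Loc G 11 1596 k₁₁) ∧ Nonempty (Loc G 7 4180 k₇) ∧
      Nonempty (Loc G 5 2926 k₅) ∧ Nonempty (Loc G 3 2926 10) := by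
  obtain ⟨c₁₉, e₁₉, k₁₉, m₁₉, ⟨L₁₉⟩⟩ := exists_loc hg 19 [3, 5, 7, 11]
    [(1540, 2, 3), (1540, 6, 1)] (by simp) (by simp) (by decide +kernel) (by simp)
  obtain ⟨c₁₁, e₁₁, k₁₁, m₁₁, ⟨L₁₁⟩⟩ := exists_loc hg 11 [3, 5, 7, 19]
    [(1596, 2, 5), (1596, 5, 2), (1596, 10, 1)] (by simp) (by simp) (by decide +kernel) (by simp)
  obtain ⟨c₇, e₇, k₇, m₇, ⟨L₇⟩⟩ := exists_loc hg 7 [3, 5, 11, 19]
    [(190, 2, 66), (190, 6, 22), (4180, 2, 3), (4180, 3, 2), (4180, 6, 1)] (by simp) (by simp)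
    (by decide +kernel) (by simp)
  obtain ⟨c₅, e₅, k₅, m₅, ⟨L₅⟩⟩ := exists_loc hg 5 [3, 7, 11, 19]
    [(66, 2, 266), (231, 2, 76), (231, 4, 38), (266, 4, 33), (1596, 2, 11), (2926, 2, 6),
      (2926, 4, 3), (17556, 2, 1)] (by simp) (by simp) (by decide +kernel) (by simp)
  obtain ⟨c₃, e₃, k₃, m₃, ⟨L₃⟩⟩ := exists_loc hg 3 [5, 7, 11, 19]
    [(55, 2, 532), (190, 2, 154), (220, 2, 133), (385, 2, 76), (1045, 2, 28), (1330, 2, 22),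
      (1540, 2, 19), (2926, 2, 10), (4180, 2, 7), (7315, 2, 4), (29260, 2, 1)] (by simp) (by simp)
    (by decide +kernel) (by simp)
  have s19_5 : 19 ∣ k₅ → 5 ∣ k₁₉ := L₅.swap L₁₉ (by norm_num)
  have s19_3 : 3 ∣ k₁₉ → 19 ∣ k₃ := L₁₉.swap L₃ (by norm_num)
  have s3_5 : 3 ∣ k₅ → 5 ∣ k₃ := L₅.swap L₃ (by norm_num)
  have s11_5 : 11 ∣ k₅ → 5 ∣ k₁₁ := L₅.swap L₁₁ (by norm_num)
  have s5_11 : 5 ∣ k₁₁ → 11 ∣ k₅ := L₁₁.swap L₅ (by norm_num)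
  have s11_7 : 11 ∣ k₇ → 7 ∣ k₁₁ := L₇.swap L₁₁ (by norm_num)
  have s3_7 : 3 ∣ k₇ → 7 ∣ k₃ := L₇.swap L₃ (by norm_num)
  obtain ⟨rfl, hk19⟩ := opt19 m₁₉
  obtain ⟨rfl, hk11⟩ := opt11 m₁₁
  obtain ⟨rfl, hk7⟩ := opt7 m₇ hk11 s11_7
  have a19 := L₁₉.count
  have a11 := L₁₁.count
  have a7 := L₇.count
  have a5 := L₅.count
  have a3 := opt3 m₃ ▸ L₃.count
  -- the cofactor at nineteen
  have h19 : k₁₉ = 1 := by
    by_contra hne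
    obtain rfl : k₁₉ = 3 := hk19.resolve_right hne
    rcases opt5a m₅ m₃ s19_5 s3_5 (s19_3 dvd_rfl) with ⟨rfl, rfl⟩ | ⟨rfl, rfl⟩
    · have h5 := five_sets (fun g : G => 19 ∣ orderOf g) (fun g => 11 ∣ orderOf g)
        (fun g => 7 ∣ orderOf g) (fun _ => False) (fun _ => False) fun g =>
        ⟨fun h => ⟨L₁₉.disj (by norm_num) (by norm_num) (by norm_num) h,
          L₁₉.disj (by norm_num) (by norm_num) (by norm_num) h, id, id⟩,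
          fun h => ⟨L₁₁.disj (by norm_num) (by norm_num) (by omega) h, id, id⟩,
          fun _ => ⟨id, id⟩, False.elim⟩
      have := s11_5 dvd_rfl
      rw [hg] at h5
      omega
    · have := total hg L₁₉ L₁₁ L₇ L₅ (fun _ => False) (by norm_num) (by norm_num) (by norm_num)
        (by omega) (by norm_num) (by omega) (fun _ => False.elim)
      omega
  subst h19
  -- eleven does not commute with five
  have h11 : ¬ 5 ∣ k₁₁ := by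
    intro h
    by_cases h37 : 3 ∣ k₇
    · have h5 := five_sets (fun g : G => 19 ∣ orderOf g) (fun g => 11 ∣ orderOf g)
        (fun g => 7 ∣ orderOf g) (fun _ => False) (fun _ => False) fun g =>
        ⟨fun h => ⟨L₁₉.disj (by norm_num) (by norm_num) (by norm_num) h,
          L₁₉.disj (by norm_num) (by norm_num) (by norm_num) h, id, id⟩,
          fun h => ⟨L₁₁.disj (by norm_num) (by norm_num) (by omega) h, id, id⟩,
          fun _ => ⟨id, id⟩, False.elim⟩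
      rw [hg] at h5
      omega
    · have h5 := five_sets (fun g : G => 19 ∣ orderOf g) (fun g => 11 ∣ orderOf g)
        (fun g => 7 ∣ orderOf g) (fun g => 3 ∣ orderOf g) (fun _ => False) fun g =>
        ⟨fun h => ⟨L₁₉.disj (by norm_num) (by norm_num) (by norm_num) h,
          L₁₉.disj (by norm_num) (by norm_num) (by norm_num) h,
          L₁₉.disj (by norm_num) (by norm_num) (by norm_num) h, id⟩,
          fun h => ⟨L₁₁.disj (by norm_num) (by norm_num) (by omega) h,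
            L₁₁.disj (by norm_num) (by norm_num) (by omega) h, id⟩,
          fun h => ⟨L₇.disj (by norm_num) (by norm_num) h37 h, id⟩, fun _ => id⟩
      rw [hg] at h5
      omega
  rcases opt5b m₅ s19_5 s11_5 h11 with ⟨rfl, hk5⟩ | ⟨rfl, rfl⟩
  · obtain ⟨rfl, rfl⟩ := opt3five m₃ (s3_5 (by omega))
    exact ⟨k₁₁, k₇, k₅, by omega, by omega, hk5, ⟨L₁₉⟩, ⟨L₁₁⟩, ⟨L₇⟩, ⟨L₅⟩, ⟨L₃⟩⟩
  -- five does not have a cyclic centralizer
  exfalso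
  by_cases h37 : 3 ∣ k₇
  · have := total hg L₁₉ L₁₁ L₇ L₅ (fun _ => False) (by norm_num) (by norm_num) (by norm_num)
      (by omega) (by norm_num) (by omega) (fun _ => False.elim)
    omega
  · have h5 := five_sets (fun g : G => 19 ∣ orderOf g) (fun g => 11 ∣ orderOf g)
      (fun g => 7 ∣ orderOf g) (fun g => 5 ∣ orderOf g) (fun g => 3 ∣ orderOf g) fun g =>
      ⟨fun h => ⟨L₁₉.disj (by norm_num) (by norm_num) (by norm_num) h,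
        L₁₉.disj (by norm_num) (by norm_num) (by norm_num) h,
        L₁₉.disj (by norm_num) (by norm_num) (by norm_num) h,
        L₁₉.disj (by norm_num) (by norm_num) (by norm_num) h⟩,
        fun h => ⟨L₁₁.disj (by norm_num) (by norm_num) (by omega) h,
          L₁₁.disj (by norm_num) (by norm_num) (by omega) h,
          L₁₁.disj (by norm_num) (by norm_num) (by omega) h⟩,
        fun h => ⟨L₇.disj (by norm_num) (by norm_num) (by omega) h,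
          L₇.disj (by norm_num) (by norm_num) h37 h⟩,
        fun h => L₅.disj (by norm_num) (by norm_num) (by norm_num) h⟩
    rw [hg] at h5
    omega

end CfsgLib.JOneCard
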